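import Cfsg.Agent.Lib.SmallSimple.Band6232.Tools
import Cfsg.Agent.Lib.Invol.ZStarFinal
import Cfsg.Agent.Lib.Cores.Basic
import Cfsg.Agent.S0946
import Cfsg.Agent.S0992

/-!
Involutions and elements of order three in the centralizer of a Sylow subgroup fixing no other one.
-/

set_option autoImplicit false
set_option linter.style.haveILetI false
set_option linter.unusedSectionVars false

namespace CfsgLib.SmallSimple.Band6232

open Subgroup CfsgLib SmallGroups AtMost1092

variable {G : Type*} [Group G] [Finite G] [IsSimpleGroup G] {p : ℕ} [hp : Fact p.Prime]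

/-- An element fixing `P` only is only conjugated into `N(P)` by `N(P)`, and its centralizer lies there. -/
theorem mem_normalizer_of_commute (P : Sylow p G) {y : G} (huniq : ∀ Q : Sylow p G, y • Q = Q → Q = P)
    (hyP : y • P = P) {g : G} (h : Commute y g) : g ∈ normalizer ((P : Subgroup G) : Set G) := by
  refine Sylow.smul_eq_iff_mem_normalizer.1 (huniq _ ?_)
  rw [← mul_smul, h.eq, mul_smul, hyP]

/-- A conjugate in `N(P)` of an element fixing `P` only is conjugate within `N(P)`. -/
theorem mem_normalizer_of_conj (P : Sylow p G) {y : G} (huniq : ∀ Q : Sylow p G, y • Q = Q → Q = P)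
    {g : G} (h : g * y * g⁻¹ ∈ normalizer ((P : Subgroup G) : Set G)) :
    g ∈ normalizer ((P : Subgroup G) : Set G) := by
  have h1 : y • (g⁻¹ • P) = g⁻¹ • P := by
    have h2 := Sylow.smul_eq_iff_mem_normalizer.2 h
    rw [mul_smul, mul_smul] at h2
    rw [← inv_smul_smul g (y • (g⁻¹ • P)), h2]
  have h3 := Sylow.smul_eq_iff_mem_normalizer.1 (huniq _ h1)
  exact inv_inv g ▸ inv_mem h3

/-- An involution centralizing `P` fixes `P` only when no larger number is possible. -/
theorem fix_unique (hG : ¬ IsMulCommutative G) (P : Sylow p G) (hP : Nat.card (P : Subgroup G) = p)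
    {k t : ℕ} (hk : Nat.card (Sylow p G) = k) (hkt : k = p * t + 1) (hk1 : k ≠ 1) {y : G}
    (hyC : y ∈ centralizer ((P : Subgroup G) : Set G)) (hy : orderOf y = 2) (hp2 : p ≠ 2)
    (h : ∀ f ≤ k, f % p = 1 → (k - f) % 4 = 0 → f = 1 ∨ f = k ∨
      (t + 1 < f ∧ Nat.card G % (p * 2 * f) ≠ 0)) :
    ∀ Q : Sylow p G, y • Q = Q → Q = P := by
  have hy1 : y ≠ 1 := fun e => by rw [e, orderOf_one] at hy; omega
  have hyy : y * y = 1 := by rw [← pow_two, ← hy, pow_orderOf_eq_one]
  obtain ⟨i, hi⟩ := SylowFixed.exists_fixCard_eq P hP hyC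
  have hle : SylowFixed.fixCard p y ≤ k := hk ▸ Finite.card_subtype_le _
  have hmod : SylowFixed.fixCard p y % p = 1 := by
    rw [hi, Nat.add_mul_mod_self_left, Nat.mod_eq_of_lt hp.out.one_lt]
  have h4 := SylowFixed.four_dvd_moved (p := p) hG hyy
  rw [hk] at h4
  rcases h _ hle hmod (Nat.mod_eq_zero_of_dvd h4) with h1 | h1 | ⟨h1, h2⟩
  · intro Q hQ
    have hsub : Subsingleton {Q : Sylow p G // y • Q = Q} := (Nat.card_eq_one_iff_unique.1 h1).1
    exact congrArg Subtype.val (hsub.elim ⟨Q, hQ⟩
      ⟨P, Sylow.smul_eq_iff_mem_normalizer.2 (centralizer_le_normalizer _ hyC)⟩)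
  · refine absurd (SylowFixed.faithful (hk ▸ hk1) fun Q => ?_) hy1
    by_contra hQ
    have := Finite.card_subtype_lt (p := fun R : Sylow p G => y • R = R) hQ
    rw [hk] at this
    exact absurd h1 (ne_of_lt this)
  · exfalso
    obtain ⟨-, -, -, h5⟩ := fixCard_facts hG P hP hk hk1 Nat.prime_two (Ne.symm hp2) hy hyC
      (fun Q hQ => SylowFixed.mem_centralizer_of_lt_fixCard Q
        (by rw [Nat.card_congr (Q.equiv P).toEquiv, hP]) (hk.trans hkt)
        (Sylow.smul_eq_iff_mem_normalizer.1 hQ) h1)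
    exact h2 (Nat.mod_eq_zero_of_dvd h5)

/-- With a four-group as Sylow `2`-subgroup such an involution puts one into `C(P)`. -/
theorem false_of_klein (hG : ¬ IsMulCommutative G) (h4 : 4 ∣ Nat.card G) (h8 : ¬ 8 ∣ Nat.card G)
    (P : Sylow p G) (hC : ¬ 4 ∣ Nat.card (centralizer ((P : Subgroup G) : Set G))) {y : G}
    (hyC : y ∈ centralizer ((P : Subgroup G) : Set G)) (hy : orderOf y = 2)
    (huniq : ∀ Q : Sylow p G, y • Q = Q → Q = P) : False := by
  haveI : Fact (Nat.Prime 2) := ⟨Nat.prime_two⟩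
  have hyP : y • P = P := Sylow.smul_eq_iff_mem_normalizer.2 (centralizer_le_normalizer _ hyC)
  have hz : IsPGroup 2 (zpowers y) := IsPGroup.of_card (n := 1) (by rw [Nat.card_zpowers, hy, pow_one])
  obtain ⟨S, hS⟩ := hz.exists_le_sylow
  have heven : Even (Nat.card G) := even_iff_two_dvd.2 (dvd_trans (by norm_num) h4)
  obtain ⟨hK, -⟩ := Cfsg.Agent.S0992.result hG heven h8 S
  haveI : IsKleinFour (S : Subgroup G) := hK
  have hS4 : Nat.card (S : Subgroup G) = 4 := IsKleinFour.card_four
  obtain ⟨e⟩ : Nonempty ((S : Subgroup G) ≃* Multiplicative (ZMod (2 ^ 1) × ZMod (2 ^ 1))) := by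
    haveI : IsKleinFour (Multiplicative (ZMod (2 ^ 1) × ZMod (2 ^ 1))) :=
      (inferInstance : IsKleinFour (Multiplicative (ZMod 2 × ZMod 2)))
    exact IsKleinFour.nonempty_mulEquiv
  rcases Cfsg.Agent.S0946.result S 1 le_rfl e with ⟨N, hN, hc⟩ | hall
  · have h := hc.card_mul_card
    rcases IsSimpleGroup.eq_bot_or_eq_top_of_normal N hN with hb | ht
    · rw [hb, card_bot, one_mul] at h
      refine hG ⟨⟨fun a b => ?_⟩⟩
      have htop : (S : Subgroup G) = ⊤ := Subgroup.eq_top_of_card_eq _ h
      have hcS : IsMulCommutative (S : Subgroup G) :=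
        IsPGroup.isMulCommutative_of_card_eq_prime_sq (p := 2) (by rw [hS4]; norm_num)
      exact congrArg Subtype.val (mul_comm' (⟨a, htop ▸ mem_top a⟩ : (S : Subgroup G)) ⟨b, htop ▸ mem_top b⟩)
    · rw [ht, card_top, hS4] at h
      have : 0 < Nat.card G := Nat.card_pos
      omega
  · have hle : (S : Subgroup G) ≤ centralizer ((P : Subgroup G) : Set G) := by
      intro z hzS
      by_cases hz1 : z = 1
      · rw [hz1]; exact one_mem _
      have hzz : z * z = 1 := by
        have h1 := IsKleinFour.mul_self (⟨z, hzS⟩ : (S : Subgroup G))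
        exact congrArg Subtype.val h1
      have hzo : orderOf z = 2 := orderOf_eq_prime (by rw [pow_two, hzz]) hz1
      have hcom : Commute y z := by
        haveI : IsMulCommutative (S : Subgroup G) :=
          IsPGroup.isMulCommutative_of_card_eq_prime_sq (p := 2) (by rw [hS4]; norm_num)
        exact congrArg Subtype.val (mul_comm' (⟨y, hS (mem_zpowers y)⟩ : (S : Subgroup G)) ⟨z, hzS⟩)
      obtain ⟨g, hg⟩ := isConj_iff.1 (hall y z hy hzo)
      have hgN : g ∈ normalizer ((P : Subgroup G) : Set G) :=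
        mem_normalizer_of_conj P huniq (by rw [hg]; exact mem_normalizer_of_commute P huniq hyP hcom)
      rw [← hg, mem_centralizer_iff]
      intro x hx
      have hx' : g⁻¹ * x * g ∈ (P : Subgroup G) := by
        have := (mem_normalizer_iff.1 (inv_mem hgN) x).1 hx
        rwa [inv_inv] at this
      have h2 := mem_centralizer_iff.1 hyC _ hx'
      calc x * (g * y * g⁻¹) = g * ((g⁻¹ * x * g) * y) * g⁻¹ := by group
        _ = g * (y * (g⁻¹ * x * g)) * g⁻¹ := by rw [h2]
        _ = (g * y * g⁻¹) * x := by group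
    exact hC (hS4 ▸ card_dvd_of_le hle)

/-- An involution central in `N(P)` fixing `P` only is isolated. -/
theorem false_of_central (hG : ¬ IsMulCommutative G) (P : Sylow p G) {y : G} (hy : orderOf y = 2)
    (hyN : normalizer ((P : Subgroup G) : Set G) ≤ centralizer ({y} : Set G)) (hyP : y • P = P)
    (huniq : ∀ Q : Sylow p G, y • Q = Q → Q = P) : False := by
  haveI : Fact (Nat.Prime 2) := ⟨Nat.prime_two⟩
  have hiso : Cfsg.IsIsolatedInvolution y := by
    refine ⟨hy, fun g hc => ?_⟩
    have hgN := mem_normalizer_of_conj P huniq (mem_normalizer_of_commute P huniq hyP hc)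
    have h := mem_centralizer_singleton_iff.1 (hyN hgN)
    rw [h, mul_inv_cancel_right]
  haveI : (Cfsg.oddCore G).Normal := by
    haveI := CfsgLib.Cores.pPrimeCore_characteristic (G := G) 2
    exact (inferInstance : (Cfsg.pPrimeCore 2 G).Normal)
  have hO : Cfsg.oddCore G = ⊥ := by
    refine (IsSimpleGroup.eq_bot_or_eq_top_of_normal _ inferInstance).resolve_right fun h => ?_
    have h2 := CfsgLib.Cores.not_dvd_card_pPrimeCore (G := G) 2
    rw [show Cfsg.pPrimeCore 2 G = ⊤ from h, card_top] at h2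
    exact h2 (hy ▸ _root_.orderOf_dvd_natCard y)
  have hZ := CfsgLib.Invol.zstar_center hiso hO
  rw [eq_bot_or_comm_of_centre hG, mem_bot] at hZ
  rw [hZ, orderOf_one] at hy
  omega

/-- An element of order three central in `N(P)` fixing `P` only, with Sylow `3`-subgroups of order nine. -/
theorem false_of_central_three (hG : ¬ IsMulCommutative G) {m : ℕ} (hnG : Nat.card G = 3 ^ 2 * m)
    (hm : ¬ 3 ∣ m) (P : Sylow p G) {z : G} (hz : orderOf z = 3)
    (hzN : normalizer ((P : Subgroup G) : Set G) ≤ centralizer ({z} : Set G)) (hzP : z • P = P)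
    (huniq : ∀ Q : Sylow p G, z • Q = Q → Q = P) : False := by
  haveI : Fact (Nat.Prime 3) := ⟨Nat.prime_three⟩
  have hzp : IsPGroup 3 (zpowers z) := IsPGroup.of_card (n := 1) (by rw [Nat.card_zpowers, hz, pow_one])
  obtain ⟨S, hS⟩ := hzp.exists_le_sylow
  have hS9 : Nat.card (S : Subgroup G) = 3 ^ 2 := card_sylow_eq hnG hm S
  haveI : IsMulCommutative (S : Subgroup G) := IsPGroup.isMulCommutative_of_card_eq_prime_sq hS9
  have hzS : z ∈ (S : Subgroup G) := hS (mem_zpowers z)
  have hfix : ∀ n ∈ normalizer ((S : Subgroup G) : Set G), n * z = z * n := by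
    intro n hn
    have hz' : n * z * n⁻¹ ∈ (S : Subgroup G) := (mem_normalizer_iff.1 hn z).1 hzS
    have hc : Commute z (n * z * n⁻¹) :=
      congrArg Subtype.val (mul_comm' (⟨z, hzS⟩ : (S : Subgroup G)) ⟨_, hz'⟩)
    exact mem_centralizer_singleton_iff.1
      (hzN (mem_normalizer_of_conj P huniq (mem_normalizer_of_commute P huniq hzP hc)))
  have h1 := eq_one_of_central_in_normalizer_of_abelian_sylow (commutator_eq_top_of_simple hG) S hzS hfix
  rw [h1, orderOf_one] at hz
  omega

/-- No Sylow normalizer with a cyclic automizer of order four over a trivial core when `8` does not divide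
the order. -/
theorem false_of_four (hG : ¬ IsMulCommutative G) (h8 : ¬ 8 ∣ Nat.card G) (P : Sylow p G) (hp2 : p ≠ 2)
    (hP : Nat.card (P : Subgroup G) = p)
    (hC : Nat.card (centralizer ((P : Subgroup G) : Set G)) = p)
    (hN : Nat.card (normalizer ((P : Subgroup G) : Set G)) = p * 4) : False := by
  haveI : Fact (Nat.Prime 2) := ⟨Nat.prime_two⟩
  haveI := Fintype.ofFinite G
  obtain ⟨x, hx, hPx⟩ := exists_zpowers_of_card_prime hP
  set N := normalizer ((P : Subgroup G) : Set G) with hNdef
  obtain ⟨W⟩ : Nonempty (Sylow 2 N) := inferInstance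
  have hpodd : ¬ 2 ∣ p := fun h => hp2
    ((Nat.prime_dvd_prime_iff_eq Nat.prime_two hp.out).1 h).symm
  have hW : Nat.card (W : Subgroup N) = 2 ^ 2 :=
    card_sylow_eq (by rw [hN, mul_comm]; rfl) hpodd W
  have hW' : Nat.card ((W : Subgroup N).map N.subtype) = 2 ^ 2 := by
    rw [card_map_of_injective N.subtype_injective, hW]
  obtain ⟨S, hS⟩ := (IsPGroup.of_card hW').exists_le_sylow
  have heven : Even (Nat.card G) := even_iff_two_dvd.2
    ((dvd_trans (by rw [hW']; norm_num) (card_subgroup_dvd_card ((W : Subgroup N).map N.subtype))))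
  haveI : IsKleinFour (S : Subgroup G) := (Cfsg.Agent.S0992.result hG heven h8 S).1
  haveI : IsCyclic (P : Subgroup G) := isCyclic_of_prime_card hP
  haveI : IsMulCommutative (P : Subgroup G) := IsCyclic.isMulCommutative
  have hC' : centralizer ((P : Subgroup G) : Set G) = (P : Subgroup G) :=
    (eq_of_le_of_card_ge (le_centralizer _) (by rw [hC, hP])).symm
  have hCx : centralizer ({x} : Set G) = zpowers x := by
    calc centralizer ({x} : Set G) = centralizer ((zpowers x : Subgroup G) : Set G) := by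
          rw [← centralizer_closure, zpowers_eq_closure]
      _ = zpowers x := by rw [← hPx, hC']
  have hinv : ∀ w : N, w ∈ (W : Subgroup N) → w ≠ 1 → (w : G) * x * (w : G)⁻¹ = x⁻¹ := by
    intro w hw hw1
    have hwS : (w : G) ∈ (S : Subgroup G) := hS ⟨w, hw, rfl⟩
    have hww : (w : G) * w = 1 :=
      congrArg Subtype.val (IsKleinFour.mul_self (⟨(w : G), hwS⟩ : (S : Subgroup G)))
    refine PrimeOrderChar.inverts hx hp2 hCx (by rw [← hPx]; exact w.2)
      (orderOf_eq_prime (by rw [pow_two, hww]) fun h => hw1 (Subtype.ext h))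
  haveI := Fintype.ofFinite (W : Subgroup N)
  classical
  obtain ⟨v, hv⟩ := exists_prime_orderOf_dvd_card' (G := (W : Subgroup N)) 2 (by rw [hW]; norm_num)
  have hv1 : (v : N) ≠ 1 := fun h => by
    rw [show v = 1 from Subtype.ext h, orderOf_one] at hv
    omega
  obtain ⟨w, hwv⟩ : ∃ w : (W : Subgroup N), w ≠ 1 ∧ w ≠ v := by
    by_contra hall
    push Not at hall
    have h1 : (Finset.univ : Finset (W : Subgroup N)) ⊆ {1, v} := fun w _ => by
      rw [Finset.mem_insert, Finset.mem_singleton]
      by_cases h : w = 1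
      · exact Or.inl h
      · exact Or.inr (hall w h)
    have := (Finset.card_le_card h1).trans Finset.card_le_two
    rw [Finset.card_univ, ← Nat.card_eq_fintype_card, hW] at this
    omega
  have h1 := hinv v v.2 hv1
  have h2 := hinv w w.2 (fun h => hwv.1 (Subtype.ext h))
  set a : G := ((v : N) : G) with ha
  set b : G := ((w : N) : G) with hb
  have hab : a⁻¹ * b ∈ zpowers x := by
    rw [← hCx, mem_centralizer_singleton_iff]
    calc a⁻¹ * b * x = a⁻¹ * (b * x * b⁻¹) * b := by group
      _ = a⁻¹ * (a * x * a⁻¹) * b := by rw [h2, h1]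
      _ = x * (a⁻¹ * b) := by group
  have habS : a⁻¹ * b ∈ (S : Subgroup G) :=
    mul_mem (inv_mem (hS ⟨_, v.2, rfl⟩)) (hS ⟨_, w.2, rfl⟩)
  have hne : a⁻¹ * b ≠ 1 := fun h =>
    hwv.2 (Subtype.ext (Subtype.ext (inv_mul_eq_one.1 h).symm))
  apply hne
  refine orderOf_eq_one_iff.1 (Nat.eq_one_of_dvd_coprimes
    ((Nat.prime_two.coprime_iff_not_dvd).2 hpodd) ?_ ?_)
  · exact orderOf_dvd_of_pow_eq_one (by
      rw [pow_two]
      exact congrArg Subtype.val (IsKleinFour.mul_self (⟨_, habS⟩ : (S : Subgroup G))))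
  · have := Subgroup.orderOf_dvd_natCard _ hab
    rwa [Nat.card_zpowers, hx] at this

end CfsgLib.SmallSimple.Band6232
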