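import Cfsg.Agent.Lib.SmallSimple.AtMost1092.Local
import Cfsg.Agent.Lib.SmallGroups.SylowLocal
import Cfsg.Agent.Lib.SmallGroups.SharpThreeIndexTwo

/-!
Intersections of index `p` of two Sylow subgroups and their normalizers.
-/

set_option autoImplicit false
set_option linter.style.haveILetI false
set_option linter.unusedSectionVars false

namespace CfsgLib.SmallSimple.Band6232

open Subgroup CfsgLib SmallGroups AtMost1092

variable {G : Type*} [Group G] [Finite G] [IsSimpleGroup G] {p : ℕ} [hp : Fact p.Prime]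

/-- The normalizer of an intersection of index `p`. -/
theorem local_facts (hG : ¬ IsMulCommutative G) {n a m : ℕ} (hnG : Nat.card G = n) (hn : n = p ^ a * m)
    (hm : ¬ p ∣ m) (ha : 2 ≤ a) {P Q : Sylow p G} (hQP : Q ≠ P)
    (hD : Nat.card ↥((P : Subgroup G) ⊓ (Q : Subgroup G)) * p = Nat.card (P : Subgroup G)) :
    ∃ mm j : ℕ, mm ∣ m ∧ j ∣ mm ∧ j % p = 1 ∧ j ≠ 1 ∧ m / mm ≠ 1 ∧ 2 * n ∣ (m / mm).factorial ∧
      Nat.card (normalizer (((P : Subgroup G) ⊓ (Q : Subgroup G) : Subgroup G) : Set G)) = p ^ a * mm ∧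
      Nat.card (Sylow p (normalizer (((P : Subgroup G) ⊓ (Q : Subgroup G) : Subgroup G) : Set G))) = j := by
  subst hn
  have hcard : Nat.card (P : Subgroup G) = p ^ a := card_sylow_eq hnG hm P
  have hcardQ : Nat.card (Q : Subgroup G) = p ^ a := card_sylow_eq hnG hm Q
  set D := (P : Subgroup G) ⊓ (Q : Subgroup G) with hDdef
  have hP : (P : Subgroup G) ≤ normalizer (D : Set G) := le_normalizer_inter hD
  have hQ : (Q : Subgroup G) ≤ normalizer (D : Set G) := by
    have := le_normalizer_inter (P := Q) (Q := P) (by rw [inf_comm, ← hDdef, hD, hcard, hcardQ])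
    rwa [inf_comm] at this
  set X := normalizer (D : Set G) with hX
  obtain ⟨mm, hmm⟩ : p ^ a ∣ Nat.card X := hcard ▸ card_dvd_of_le hP
  have hpa : 0 < p ^ a := pow_pos hp.out.pos a
  have hmmdvd : mm ∣ m := by
    have h := card_subgroup_dvd_card X
    rw [hmm, hnG] at h
    exact Nat.dvd_of_mul_dvd_mul_left hpa h
  have hmmp : ¬ p ∣ mm := fun h => hm (h.trans hmmdvd)
  have hmm0 : 0 < mm := Nat.pos_of_ne_zero fun h => hmmp (h ▸ dvd_zero p)
  have hidx : X.index = m / mm := by
    have h := card_mul_index X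
    rw [hmm, hnG, mul_assoc] at h
    rw [← Nat.eq_of_mul_eq_mul_left hpa h, Nat.mul_div_cancel_left _ hmm0]
  have hj : Nat.card (Sylow p X) ≠ 1 := by
    intro h1
    haveI := (Nat.card_eq_one_iff_unique.1 h1).1
    exact hQP (Sylow.subtype_injective (Subsingleton.elim (Q.subtype hQ) (P.subtype hP)))
  have hjd : Nat.card (Sylow p X) ∣ mm := card_sylow_dvd_of_card_eq (p := p) hmm hmmp
  have htop : X ≠ ⊤ := by
    intro htop
    have hn' : D.Normal := normalizer_eq_top_iff.1 htop
    rcases IsSimpleGroup.eq_bot_or_eq_top_of_normal D hn' with h | h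
    · rw [h, card_bot, one_mul, hcard] at hD
      have : p ^ 1 < p ^ a := Nat.pow_lt_pow_right hp.out.one_lt ha
      rw [pow_one] at this
      omega
    · rw [h, card_top, hnG, hcard] at hD
      have hm0 : 0 < m := Nat.pos_of_ne_zero fun e => hm (e ▸ dvd_zero p)
      nlinarith [hp.out.two_le]
  refine ⟨mm, _, hmmdvd, hjd, mod_eq_one_card_sylow, hj, ?_, ?_, hmm, rfl⟩
  · intro h
    exact htop (index_eq_one.1 (hidx.trans h))
  · rw [← hnG, ← hidx]
    exact SmallGroups.two_mul_card_dvd_factorial hG X htop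

/-- A group of even order `2 m`, `m` odd, has a normal subgroup containing every Sylow subgroup for an odd
prime, so the Sylow number divides a smaller order. -/
theorem sylow_number_half {H : Type*} [Group H] [Finite H] (hp2 : p ≠ 2) {a m : ℕ}
    (hH : Nat.card H = p ^ a * (2 * m)) (hm2 : ¬ 2 ∣ m) (hmp : ¬ p ∣ m) :
    Nat.card (Sylow p H) ∣ m := by
  haveI : Fact (Nat.Prime 2) := ⟨Nat.prime_two⟩
  have hodd : ¬ 2 ∣ p ^ a := fun h => hp2
    ((Nat.prime_dvd_prime_iff_eq Nat.prime_two hp.out).1 (Nat.prime_two.dvd_of_dvd_pow h)).symm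
  obtain ⟨S⟩ : Nonempty (Sylow 2 H) := inferInstance
  have hS : Nat.card (S : Subgroup H) = 2 := by
    simpa using SmallGroups.card_sylow_eq (p := 2) (a := 1) (m := p ^ a * m)
      (by rw [hH]; ring) (fun h => (Nat.prime_two.dvd_mul.1 h).elim hodd hm2) S
  obtain ⟨M, hM⟩ := SharpThreeIndexTwo.exists_index_two_of_cyclic_sylow
    (hH ▸ dvd_mul_of_dvd_right (dvd_mul_right 2 m) _) S (isCyclic_of_prime_card hS)
  have hMcard : Nat.card M = p ^ a * m := by
    have h := card_mul_index M
    rw [hM, hH] at h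
    exact Nat.eq_of_mul_eq_mul_right two_pos (h.trans (by ring))
  haveI : M.Normal := normal_of_index_eq_two hM
  have hle : ∀ R : Sylow p H, (R : Subgroup H) ≤ M := by
    intro R x hx
    obtain ⟨i, hi⟩ := IsPGroup.iff_orderOf.1 R.2 ⟨x, hx⟩
    rw [Subgroup.orderOf_mk] at hi
    have h1 : orderOf (x : H ⧸ M) ∣ 2 := hM ▸ _root_.orderOf_dvd_natCard _
    have h2 : orderOf (x : H ⧸ M) ∣ p ^ i := hi ▸ orderOf_map_dvd (QuotientGroup.mk' M) x
    exact (QuotientGroup.eq_one_iff x).1 (orderOf_eq_one_iff.1 (Nat.eq_one_of_dvd_coprimes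
      (((Nat.coprime_primes Nat.prime_two hp.out).2 (Ne.symm hp2)).pow_right i) h1 h2))
  obtain ⟨R⟩ : Nonempty (Sylow p H) := inferInstance
  have hcount : Nat.card (Sylow p H) = Nat.card (Sylow p M) := by
    rw [SylowLocal.card_sylow_eq_card_le R (hle R)]
    exact (Nat.card_congr (Equiv.subtypeUnivEquiv hle)).symm
  exact hcount ▸ SmallGroups.card_sylow_dvd_of_card_eq hMcard hmp

/-- Sylow subgroups of order `p ^ 2`, all local Sylow numbers equal to `j`: exactly two intersections of
order `p` in each, so one of them is normalized by a subgroup of index at most two of `N(P)`. -/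
theorem exists_two_local (hG : ¬ IsMulCommutative G) {n m k c j : ℕ} (hnG : Nat.card G = n)
    (hn : n = p ^ 2 * m) (hm : ¬ p ∣ m) (P : Sylow p G) (hk : Nat.card (Sylow p G) = k) (hkc : k * c = m)
    (hmod : k % p ^ 2 ≠ 1)
    (hjall : ∀ mm ∈ Nat.divisors m, ∀ i ∈ Nat.divisors mm, i % p = 1 → i ≠ 1 → m / mm ≠ 1 →
      (m / mm).factorial % (2 * n) = 0 → i = j)
    (hcount : ∀ a ≤ p + 1, 1 ≤ a → (j - 1) * a ≤ k - 1 → (k - 1 - (j - 1) * a) % p ^ 2 = 0 → a ≤ 2) :
    ∃ Q : Sylow p G, Q ≠ P ∧
      Nat.card ↥((P : Subgroup G) ⊓ (Q : Subgroup G)) * p = Nat.card (P : Subgroup G) ∧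
      p ^ 2 * c ≤ 2 * Nat.card (normalizer ((P : Subgroup G) : Set G) ⊓
        normalizer (((P : Subgroup G) ⊓ (Q : Subgroup G) : Subgroup G) : Set G) : Subgroup G) := by
  classical
  subst hn
  haveI := Fintype.ofFinite (Sylow p G)
  haveI := Fintype.ofFinite G
  have hcard : ∀ R : Sylow p G, Nat.card (R : Subgroup G) = p ^ 2 := fun R => card_sylow_eq hnG hm R
  have hcomm : ∀ R : Sylow p G, IsMulCommutative (R : Subgroup G) := fun R =>
    IsPGroup.isMulCommutative_of_card_eq_prime_sq (hcard R)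
  have hpp : 0 < p := hp.out.pos
  -- cards of intersections
  have hval : ∀ Q : Sylow p G, Q ≠ P → Nat.card ↥((P : Subgroup G) ⊓ (Q : Subgroup G)) = 1 ∨
      Nat.card ↥((P : Subgroup G) ⊓ (Q : Subgroup G)) = p := by
    intro Q hQ
    obtain ⟨i, hi, hi'⟩ := (Nat.dvd_prime_pow hp.out).1
      (hcard P ▸ card_dvd_of_le (inf_le_left : (P : Subgroup G) ⊓ (Q : Subgroup G) ≤ _))
    interval_cases i
    · exact Or.inl (by rw [hi', pow_zero])
    · exact Or.inr (by rw [hi', pow_one])
    · exfalso
      have h1 : (P : Subgroup G) ⊓ (Q : Subgroup G) = (P : Subgroup G) :=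
        eq_of_le_of_card_ge inf_le_left (by rw [hi', hcard P])
      exact hQ (sylow_eq_of_normalizes P Q (inf_eq_left.1 h1 |>.trans Subgroup.le_normalizer)).symm
  let D : Sylow p G → Subgroup G := fun Q => (P : Subgroup G) ⊓ (Q : Subgroup G)
  set T : Finset (Sylow p G) := (Finset.univ.erase P).filter fun Q => Nat.card (D Q) = p with hT
  set T0 : Finset (Sylow p G) := (Finset.univ.erase P).filter fun Q => ¬ Nat.card (D Q) = p with hT0
  have hsum : T.card + T0.card = k - 1 := by
    rw [hT, hT0, Finset.card_filter_add_card_filter_not, Finset.card_erase_of_mem (Finset.mem_univ _),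
      Finset.card_univ, ← Nat.card_eq_fintype_card, hk]
  have hfixP : ∀ y : ↥(P : Subgroup G), y • P = P := fun y =>
    Sylow.smul_eq_iff_mem_normalizer.2 (Subgroup.le_normalizer y.2)
  -- the trivial intersections come in regular orbits
  have hT0dvd : p ^ 2 ∣ T0.card := by
    let Rest : SubMulAction ↥(P : Subgroup G) (Sylow p G) :=
      { carrier := {Q | Q ≠ P ∧ Nat.card ↥((P : Subgroup G) ⊓ (Q : Subgroup G)) = 1}
        smul_mem' := by
          rintro y Q ⟨hQ, hQ1⟩
          refine ⟨fun h => hQ (by rw [← inv_smul_smul y Q, h, hfixP]), ?_⟩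
          rw [← stabilizer_eq_inf, card_map_of_injective (P : Subgroup G).subtype_injective,
            MulAction.stabilizer_smul_eq_stabilizer_map_conj,
            card_map_of_injective (MulEquiv.injective _),
            ← card_map_of_injective (P : Subgroup G).subtype_injective, stabilizer_eq_inf, hQ1] }
    haveI : Fintype Rest := Fintype.ofFinite _
    haveI : ∀ a : Rest, Fintype (MulAction.orbit ↥(P : Subgroup G) a) := fun _ => Fintype.ofFinite _
    haveI : Fintype (MulAction.orbitRel.Quotient ↥(P : Subgroup G) Rest) := Fintype.ofFinite _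
    have horb : ∀ a : Rest, p ^ 2 ∣ Nat.card (MulAction.orbit ↥(P : Subgroup G) a) := by
      intro a
      haveI := Fintype.ofFinite ↥(P : Subgroup G)
      haveI := Fintype.ofFinite ↥(MulAction.stabilizer ↥(P : Subgroup G) a)
      have h1 := MulAction.card_orbit_mul_card_stabilizer_eq_card_group ↥(P : Subgroup G) a
      rw [← Nat.card_eq_fintype_card, ← Nat.card_eq_fintype_card, ← Nat.card_eq_fintype_card,
        SubMulAction.stabilizer_of_subMul a,
        ← card_map_of_injective (P : Subgroup G).subtype_injective, stabilizer_eq_inf P a.1, a.2.2,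
        mul_one, hcard P] at h1
      exact h1.symm.dvd
    have hrest : Nat.card Rest = T0.card := by
      rw [← Fintype.card_coe, ← Nat.card_eq_fintype_card]
      refine Nat.card_congr (Equiv.subtypeEquivRight fun Q => ?_)
      simp only [hT0, Finset.mem_filter, Finset.mem_erase, Finset.mem_univ, and_true]
      show Q ≠ P ∧ _ ↔ _
      refine and_congr_right fun hQ => ⟨fun h1 h2 => ?_, fun h => (hval Q hQ).resolve_right h⟩
      have h3 : Nat.card (D Q) = 1 := h1
      rw [h2] at h3
      exact hp.out.one_lt.ne' h3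
    rw [← hrest, Nat.card_congr (MulAction.selfEquivSigmaOrbits ↥(P : Subgroup G) Rest), Nat.card_sigma]
    exact Finset.dvd_sum fun ω _ => horb _
  have hTmem : ∀ {Q}, Q ∈ T → Q ≠ P ∧ Nat.card (D Q) = p := by
    intro Q hQ
    simp only [hT, Finset.mem_filter, Finset.mem_erase] at hQ
    exact ⟨hQ.1.1, hQ.2⟩
  have hDmul : ∀ {Q}, Q ∈ T → Nat.card ↥((P : Subgroup G) ⊓ (Q : Subgroup G)) * p = Nat.card (P : Subgroup G) := by
    intro Q hQ
    rw [(hTmem hQ).2, hcard P, pow_two]
  -- each intersection occurs `j - 1` times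
  have hfib : ∀ E ∈ T.image D, (T.filter fun Q => D Q = E).card = j - 1 := by
    intro E hE
    obtain ⟨Q, hQ, rfl⟩ := Finset.mem_image.1 hE
    obtain ⟨mm, i, hmm, hi, hip, hi1, hmm1, hfac, -, hiX⟩ :=
      local_facts hG hnG rfl hm le_rfl (hTmem hQ).1 (hDmul hQ)
    have hm0 : 0 < m := Nat.pos_of_ne_zero fun h => hm (h ▸ dvd_zero p)
    have hij := hjall mm (Nat.mem_divisors.2 ⟨hmm, hm0.ne'⟩) i
      (Nat.mem_divisors.2 ⟨hi, fun h => by rw [h, zero_dvd_iff] at hmm; omega⟩) hip hi1 hmm1
      (Nat.mod_eq_zero_of_dvd hfac)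
    subst hij
    have hPX : (P : Subgroup G) ≤ normalizer (D Q : Set G) := le_normalizer_inter (hDmul hQ)
    have hiff : ∀ R : Sylow p G, D Q ≤ (R : Subgroup G) ↔ (R : Subgroup G) ≤ normalizer (D Q : Set G) := by
      intro R
      constructor
      · intro hle x hx
        rw [mem_normalizer_iff]
        intro h
        haveI := hcomm R
        constructor
        · intro hh
          have hc : x * h = h * x :=
            congrArg Subtype.val (mul_comm' (⟨x, hx⟩ : (R : Subgroup G)) ⟨h, hle hh⟩)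
          rwa [hc, mul_inv_cancel_right]
        · intro hh
          have hc : x * (x * h * x⁻¹) = (x * h * x⁻¹) * x :=
            congrArg Subtype.val (mul_comm' (⟨x, hx⟩ : (R : Subgroup G)) ⟨x * h * x⁻¹, hle hh⟩)
          have : x * h * x⁻¹ = h := by
            calc x * h * x⁻¹ = x⁻¹ * (x * (x * h * x⁻¹)) := by group
              _ = x⁻¹ * ((x * h * x⁻¹) * x) := by rw [hc]
              _ = h := by group
          rwa [this] at hh
      · intro hle
        have hpD : IsPGroup p (D Q) := P.2.to_le inf_le_left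
        have hsup : IsPGroup p ↥((R : Subgroup G) ⊔ D Q) :=
          R.2.to_sup_of_normal_right' hpD hle
        exact le_sup_right.trans (R.3 hsup le_sup_left).le
    have hset : T.filter (fun R => D R = D Q) =
        ((Finset.univ : Finset (Sylow p G)).filter fun R : Sylow p G =>
          (R : Subgroup G) ≤ normalizer (D Q : Set G)).erase P := by
      ext R
      simp only [hT, Finset.mem_filter, Finset.mem_erase, Finset.mem_univ, and_true, true_and]
      constructor
      · rintro ⟨⟨hR, -⟩, heq⟩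
        exact ⟨hR, (hiff R).1 (heq ▸ (inf_le_right : D R ≤ _))⟩
      · rintro ⟨hR, hle⟩
        have hge : D Q ≤ D R := le_inf inf_le_left ((hiff R).2 hle)
        have hp' := (hTmem hQ).2
        rcases hval R hR with h1 | h1
        · have := Nat.le_of_dvd Nat.card_pos (card_dvd_of_le hge)
          have h1' : Nat.card (D R) = 1 := h1
          rw [hp', h1'] at this
          have := hp.out.one_lt
          omega
        · exact ⟨⟨hR, h1⟩, (eq_of_le_of_card_ge hge (by rw [hp']; exact h1.le)).symm⟩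
    rw [hset, Finset.card_erase_of_mem (show P ∈ Finset.univ.filter fun R : Sylow p G =>
        (R : Subgroup G) ≤ normalizer (D Q : Set G) from Finset.mem_filter.2 ⟨Finset.mem_univ _, hPX⟩), ← hiX,
      SylowLocal.card_sylow_eq_card_le P hPX, Nat.card_eq_fintype_card, Fintype.card_subtype]
  set Img := T.image D with hImg
  have hTcard : T.card = (j - 1) * Img.card := by
    rw [Finset.card_eq_sum_card_image D T, Finset.sum_congr rfl hfib, Finset.sum_const, smul_eq_mul,
      mul_comm]
  obtain ⟨Q0, hQ0⟩ : T.Nonempty := by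
    rw [Finset.nonempty_iff_ne_empty]
    intro h
    rw [h, Finset.card_empty, zero_add] at hsum
    rw [hsum] at hT0dvd
    obtain ⟨w, hw⟩ := hT0dvd
    have hk0 : 0 < k := hk ▸ Nat.card_pos
    apply hmod
    rw [show k = 1 + p ^ 2 * w by omega, Nat.add_mul_mod_self_left, Nat.mod_eq_of_lt
      (Nat.one_lt_pow two_ne_zero hp.out.one_lt)]
  -- at most `p + 1` subgroups of order `p` in `P`
  have hbound : Img.card ≤ p + 1 := by
    let el : Subgroup G → Finset G := fun E => (Finset.univ.filter fun x : G => x ∈ E).erase 1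
    have helc : ∀ E ∈ Img, (el E).card = p - 1 := by
      intro E hE
      obtain ⟨Q, hQ, rfl⟩ := Finset.mem_image.1 hE
      rw [Finset.card_erase_of_mem (Finset.mem_filter.2 ⟨Finset.mem_univ _, one_mem _⟩),
        ← Fintype.card_subtype, ← Nat.card_eq_fintype_card]
      exact congrArg (· - 1) (hTmem hQ).2
    have hdisj : (Img : Set (Subgroup G)).PairwiseDisjoint el := by
      intro E hE F hF hEF
      rw [Function.onFun, Finset.disjoint_left]
      intro x hxE hxF
      simp only [el, Finset.mem_erase, Finset.mem_filter, Finset.mem_univ, true_and] at hxE hxF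
      obtain ⟨Q, hQ, rfl⟩ := Finset.mem_image.1 hE
      obtain ⟨R, hR, rfl⟩ := Finset.mem_image.1 hF
      apply hEF
      have hzc : ∀ S ∈ T, x ∈ D S → zpowers x = D S := by
        intro S hS hxS
        refine eq_of_le_of_card_ge ((zpowers_le).2 hxS) ?_
        have hd : orderOf x ∣ p := (hTmem hS).2 ▸ Subgroup.orderOf_dvd_natCard _ hxS
        rw [Nat.card_zpowers, (hTmem hS).2]
        rcases (Nat.dvd_prime hp.out).1 hd with h1 | h1
        · exact absurd (orderOf_eq_one_iff.1 h1) hxE.1
        · exact h1.ge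
      exact (hzc Q hQ hxE.2).symm.trans (hzc R hR hxF.2)
    have hsub : Img.biUnion el ⊆ (Finset.univ.filter fun x : G => x ∈ (P : Subgroup G)).erase 1 := by
      intro x hx
      obtain ⟨E, hE, hxE⟩ := Finset.mem_biUnion.1 hx
      obtain ⟨Q, hQ, rfl⟩ := Finset.mem_image.1 hE
      simp only [el, Finset.mem_erase, Finset.mem_filter, Finset.mem_univ, true_and] at hxE ⊢
      exact ⟨hxE.1, (inf_le_left : D Q ≤ (P : Subgroup G)) hxE.2⟩
    have h1 := Finset.card_le_card hsub
    rw [Finset.card_biUnion hdisj, Finset.sum_congr rfl helc, Finset.sum_const, smul_eq_mul,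
      Finset.card_erase_of_mem (Finset.mem_filter.2 ⟨Finset.mem_univ _, one_mem _⟩),
      ← Fintype.card_subtype, ← Nat.card_eq_fintype_card, hcard P] at h1
    have hfac : p ^ 2 - 1 = (p + 1) * (p - 1) := by rw [← Nat.sq_sub_sq, one_pow]
    rw [hfac] at h1
    exact Nat.le_of_mul_le_mul_right h1 (Nat.sub_pos_of_lt hp.out.one_lt)
  have hImg1 : 1 ≤ Img.card := Finset.card_pos.2 ⟨D Q0, Finset.mem_image_of_mem _ hQ0⟩
  have htwo : Img.card ≤ 2 := by
    refine hcount _ hbound hImg1 (by omega) ?_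
    rw [show k - 1 - (j - 1) * Img.card = T0.card by omega]
    exact Nat.mod_eq_zero_of_dvd hT0dvd
  refine ⟨Q0, (hTmem hQ0).1, hDmul hQ0, ?_⟩
  -- `N(P)` permutes the intersections
  set N := normalizer ((P : Subgroup G) : Set G) with hN
  have hNcard : Nat.card N = p ^ 2 * c := by
    have h := card_sylow_mul_card_normalizer P
    rw [hk, hnG, ← hkc] at h
    exact Nat.eq_of_mul_eq_mul_left (hk ▸ Nat.card_pos : 0 < k) (h.trans (by ring))
  have hmaps : ∀ x : N, (D Q0).map (MulAut.conj (x : G)).toMonoidHom ∈ Img := by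
    intro x
    have hxP : (x : G) • P = P := Sylow.smul_eq_iff_mem_normalizer.2 x.2
    have hxP' : (P : Subgroup G).map (MulAut.conj (x : G)).toMonoidHom = (P : Subgroup G) :=
      congrArg (fun R : Sylow p G => (R : Subgroup G)) hxP
    have heq : D ((x : G) • Q0) = (D Q0).map (MulAut.conj (x : G)).toMonoidHom := by
      show (P : Subgroup G) ⊓ (((x : G) • Q0 : Sylow p G) : Subgroup G) =
        ((P : Subgroup G) ⊓ (Q0 : Subgroup G)).map _
      rw [Subgroup.map_inf_eq _ _ _ (MulAut.conj (x : G)).injective, hxP']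
      rfl
    refine Finset.mem_image.2 ⟨(x : G) • Q0, ?_, heq⟩
    simp only [hT, Finset.mem_filter, Finset.mem_erase, Finset.mem_univ, and_true]
    refine ⟨fun h => (hTmem hQ0).1 (MulAction.injective (x : G) (h.trans hxP.symm)), ?_⟩
    rw [heq, card_map_of_injective (MulAut.conj (x : G)).injective]
    exact (hTmem hQ0).2
  let φ : N → {E // E ∈ Img} := fun x => ⟨_, hmaps x⟩
  let rep : {E // E ∈ Img} → N := fun E => if h : ∃ x, φ x = E then h.choose else 1
  have hrep : ∀ x, φ (rep (φ x)) = φ x := fun x => by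
    have h : ∃ y, φ y = φ x := ⟨x, rfl⟩
    show φ (dite _ _ _) = φ x
    rw [dif_pos h]
    exact h.choose_spec
  have hst : ∀ x y : N, φ x = φ y → ((x : G)⁻¹ * y) ∈ N ⊓ normalizer (D Q0 : Set G) := by
    intro x y h
    refine Subgroup.mem_inf.2 ⟨N.mul_mem (N.inv_mem x.2) y.2, mem_normalizer_iff.2 fun z => ?_⟩
    have h' : (D Q0).map (MulAut.conj (x : G)).toMonoidHom = (D Q0).map (MulAut.conj (y : G)).toMonoidHom :=
      congrArg Subtype.val h
    constructor
    · intro hz
      have h1 : (y : G) * z * (y : G)⁻¹ ∈ (D Q0).map (MulAut.conj (x : G)).toMonoidHom :=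
        h' ▸ ⟨z, hz, rfl⟩
      obtain ⟨w, hw, hweq⟩ := h1
      have : (x : G)⁻¹ * y * z * ((x : G)⁻¹ * y)⁻¹ = w := by
        have hweq' : (x : G) * w * (x : G)⁻¹ = (y : G) * z * (y : G)⁻¹ := hweq
        calc (x : G)⁻¹ * y * z * ((x : G)⁻¹ * y)⁻¹ = (x : G)⁻¹ * ((y : G) * z * (y : G)⁻¹) * x := by group
          _ = (x : G)⁻¹ * ((x : G) * w * (x : G)⁻¹) * x := by rw [hweq']
          _ = w := by group
      rw [this]
      exact hw
    · intro hz
      have h1 : (x : G) * ((x : G)⁻¹ * y * z * ((x : G)⁻¹ * y)⁻¹) * (x : G)⁻¹ ∈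
          (D Q0).map (MulAut.conj (y : G)).toMonoidHom := h' ▸ ⟨_, hz, rfl⟩
      obtain ⟨w, hw, hweq⟩ := h1
      have hweq' : (y : G) * w * (y : G)⁻¹ =
          (x : G) * ((x : G)⁻¹ * y * z * ((x : G)⁻¹ * y)⁻¹) * (x : G)⁻¹ := hweq
      have : z = w := by
        calc z = (y : G)⁻¹ * ((x : G) * ((x : G)⁻¹ * y * z * ((x : G)⁻¹ * y)⁻¹) * (x : G)⁻¹) * y := by group
          _ = (y : G)⁻¹ * ((y : G) * w * (y : G)⁻¹) * y := by rw [hweq']
          _ = w := by group
      rw [this]
      exact hw
  let ι : N → {E // E ∈ Img} × ↥(N ⊓ normalizer (D Q0 : Set G)) := fun x =>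
    (φ x, ⟨(rep (φ x) : G)⁻¹ * x, hst _ _ (hrep x)⟩)
  have hι : Function.Injective ι := by
    intro x y h
    simp only [ι, Prod.mk.injEq, Subtype.mk.injEq] at h
    rw [h.1] at h
    exact Subtype.ext (mul_left_cancel h.2)
  have := Nat.card_le_card_of_injective ι hι
  rw [hNcard, Nat.card_prod, Nat.card_eq_fintype_card, Fintype.card_coe] at this
  exact this.trans (Nat.mul_le_mul_right _ htwo)

end CfsgLib.SmallSimple.Band6232
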