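import Cfsg.Agent.Lib.SmallSimple.Band6232.Tools
import Cfsg.Agent.Lib.SmallSimple.Band6232.Inter
import Cfsg.Agent.Lib.SmallSimple.Band6232.Fusion

/-!
The orders between 3641 and 6232 that need a separate argument.
-/

set_option autoImplicit false
set_option linter.style.haveILetI false
set_option linter.unusedSectionVars false

namespace CfsgLib.SmallSimple.Band6232

open Subgroup CfsgLib SmallGroups AtMost1092

variable {G : Type*} [Group G] [Finite G] [IsSimpleGroup G]

theorem ne_3696 (hG : ¬ IsMulCommutative G) : Nat.card G ≠ 3696 := by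
  intro hn
  haveI : Fact (Nat.Prime 11) := ⟨by norm_num⟩
  obtain ⟨P⟩ : Nonempty (Sylow 11 G) := inferInstance
  obtain ⟨k, r, u, hmem, hk, hku, hN, hC⟩ :=
    options (m := 336) hG hn (by norm_num) (by norm_num) P [(56, 2)] (by decide +kernel)
  simp only [List.mem_singleton, Prod.mk.injEq] at hmem
  obtain ⟨rfl, rfl⟩ := hmem
  obtain rfl : u = 3 := by omega
  exact false_of_no_local hG hn (m := 336) (by norm_num) (by norm_num) P hk (by norm_num) hN hC
    (q := 3) Nat.prime_three (by norm_num) (by norm_num) dvd_rfl (by decide +kernel)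

theorem ne_5148 (hG : ¬ IsMulCommutative G) : Nat.card G ≠ 5148 := by
  intro hn
  haveI : Fact (Nat.Prime 13) := ⟨by norm_num⟩
  obtain ⟨P⟩ : Nonempty (Sylow 13 G) := inferInstance
  obtain ⟨k, r, u, hmem, hk, hku, hN, hC⟩ :=
    options (m := 396) hG hn (by norm_num) (by norm_num) P [(66, 2), (66, 3), (66, 6)] (by decide +kernel)
  simp only [List.mem_cons, List.not_mem_nil, or_false, Prod.mk.injEq] at hmem
  rcases hmem with ⟨rfl, rfl⟩ | ⟨rfl, rfl⟩ | ⟨rfl, rfl⟩
  · obtain rfl : u = 3 := by omega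
    exact false_of_no_local hG hn (m := 396) (by norm_num) (by norm_num) P hk (by norm_num) hN hC
      (q := 3) Nat.prime_three (by norm_num) (by norm_num) dvd_rfl (by decide +kernel)
  · obtain rfl : u = 2 := by omega
    exact false_of_no_local hG hn (m := 396) (by norm_num) (by norm_num) P hk (by norm_num) hN hC
      (q := 2) Nat.prime_two (by norm_num) (by norm_num) dvd_rfl (by decide +kernel)
  · obtain rfl : u = 1 := by omega
    rcases order_of_self_centralizing hG hn (m := 396) (by norm_num) (by norm_num) P (by norm_num)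
      (by rw [hC, mul_one]) (by rw [hk]; norm_num) with h | h <;> norm_num at h

theorem ne_4212 (hG : ¬ IsMulCommutative G) : Nat.card G ≠ 4212 := by
  intro hn
  haveI : Fact (Nat.Prime 13) := ⟨by norm_num⟩
  obtain ⟨P⟩ : Nonempty (Sylow 13 G) := inferInstance
  obtain ⟨k, r, u, hmem, hk, hku, hN, hC⟩ :=
    options (m := 324) hG hn (by norm_num) (by norm_num) P [(27, 12)] (by decide +kernel)
  simp only [List.mem_singleton, Prod.mk.injEq] at hmem
  obtain ⟨rfl, rfl⟩ := hmem
  obtain rfl : u = 1 := by omega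
  rcases order_of_self_centralizing hG hn (m := 324) (by norm_num) (by norm_num) P (by norm_num)
    (by rw [hC, mul_one]) (by rw [hk]; norm_num) with h | h <;> norm_num at h

theorem ne_4760 (hG : ¬ IsMulCommutative G) : Nat.card G ≠ 4760 := by
  intro hn
  haveI : Fact (Nat.Prime 17) := ⟨by norm_num⟩
  obtain ⟨P⟩ : Nonempty (Sylow 17 G) := inferInstance
  obtain ⟨k, r, u, hmem, hk, hku, hN, hC⟩ :=
    options (m := 280) hG hn (by norm_num) (by norm_num) P [(35, 8)] (by decide +kernel)
  simp only [List.mem_singleton, Prod.mk.injEq] at hmem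
  obtain ⟨rfl, rfl⟩ := hmem
  obtain rfl : u = 1 := by omega
  rcases order_of_self_centralizing hG hn (m := 280) (by norm_num) (by norm_num) P (by norm_num)
    (by rw [hC, mul_one]) (by rw [hk]; norm_num) with h | h <;> norm_num at h

theorem ne_6160 (hG : ¬ IsMulCommutative G) : Nat.card G ≠ 6160 := by
  intro hn
  haveI : Fact (Nat.Prime 7) := ⟨by norm_num⟩
  obtain ⟨P⟩ : Nonempty (Sylow 7 G) := inferInstance
  obtain ⟨k, r, u, hmem, -⟩ :=
    options (m := 880) hG hn (by norm_num) (by norm_num) P [] (by decide +kernel)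
  exact absurd hmem List.not_mem_nil

theorem ne_4620 (hG : ¬ IsMulCommutative G) : Nat.card G ≠ 4620 := by
  intro hn
  haveI : Fact (Nat.Prime 7) := ⟨by norm_num⟩
  obtain ⟨P⟩ : Nonempty (Sylow 7 G) := inferInstance
  obtain ⟨k, r, u, hmem, hk, hku, hN, -⟩ :=
    options (m := 660) hG hn (by norm_num) (by norm_num) P [(330, 2)] (by decide +kernel)
  simp only [List.mem_singleton, Prod.mk.injEq] at hmem
  obtain ⟨rfl, rfl⟩ := hmem
  obtain rfl : u = 1 := by omega
  exact false_of_formula hG hn (m := 660) (by norm_num) (by norm_num) (by norm_num) P (by simpa using hN)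
    (by decide +kernel)

theorem ne_5104 (hG : ¬ IsMulCommutative G) : Nat.card G ≠ 5104 := by
  intro hn
  haveI : Fact (Nat.Prime 29) := ⟨by norm_num⟩
  obtain ⟨P⟩ : Nonempty (Sylow 29 G) := inferInstance
  obtain ⟨k, r, u, hmem, hk, hku, hN, -⟩ :=
    options (m := 176) hG hn (by norm_num) (by norm_num) P [(88, 2)] (by decide +kernel)
  simp only [List.mem_singleton, Prod.mk.injEq] at hmem
  obtain ⟨rfl, rfl⟩ := hmem
  obtain rfl : u = 1 := by omega
  exact false_of_formula hG hn (m := 176) (by norm_num) (by norm_num) (by norm_num) P (by simpa using hN)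
    (by decide +kernel)

theorem ne_5600 (hG : ¬ IsMulCommutative G) : Nat.card G ≠ 5600 := by
  intro hn
  haveI : Fact (Nat.Prime 7) := ⟨by norm_num⟩
  obtain ⟨P⟩ : Nonempty (Sylow 7 G) := inferInstance
  obtain ⟨k, r, u, hmem, hk, hku, hN, hC⟩ :=
    options (m := 800) hG hn (by norm_num) (by norm_num) P [(50, 2), (400, 2)] (by decide +kernel)
  have h7 := card_centralizer_of_three (m := 800) (by rw [hn]) (by norm_num) Nat.prime_two
    (by norm_num : Nat.Prime 5) (b := 5) (e := 2) (by norm_num) (by norm_num) (by norm_num) (by norm_num) P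
  obtain rfl : u = 1 := by omega
  simp only [List.mem_cons, List.not_mem_nil, or_false, Prod.mk.injEq] at hmem
  rcases hmem with ⟨rfl, rfl⟩ | ⟨rfl, rfl⟩
  · omega
  exact false_of_formula hG hn (m := 800) (by norm_num) (by norm_num) (by norm_num) P (by simpa using hN)
    (by decide +kernel)

theorem ne_3780 (hG : ¬ IsMulCommutative G) : Nat.card G ≠ 3780 := by
  intro hn
  haveI : Fact (Nat.Prime 7) := ⟨by norm_num⟩
  haveI : Fact (Nat.Prime 5) := ⟨by norm_num⟩
  obtain ⟨P⟩ : Nonempty (Sylow 7 G) := inferInstance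
  obtain ⟨k, r, u, hmem, hk, hku, hN, hC⟩ :=
    options (m := 540) hG hn (by norm_num) (by norm_num) P [(36, 3)] (by decide +kernel)
  simp only [List.mem_singleton, Prod.mk.injEq] at hmem
  obtain ⟨rfl, rfl⟩ := hmem
  obtain rfl : u = 5 := by omega
  obtain ⟨y, hyC, hy⟩ := exists_of_dvd_centralizer (q := 5) (by norm_num) hC (by norm_num)
  have hz : IsPGroup 5 (zpowers y) := IsPGroup.of_card (n := 1) (by rw [Nat.card_zpowers, hy, pow_one])
  obtain ⟨Q, hQ⟩ := hz.exists_le_sylow
  have hQc : Nat.card (Q : Subgroup G) = 5 := card_of_prime (m := 756) (by rw [hn]) (by norm_num) Q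
  have hQy : zpowers y = (Q : Subgroup G) :=
    eq_of_le_of_card_ge hQ (by rw [hQc, Nat.card_zpowers, hy])
  have hPQ : (P : Subgroup G) ≤ centralizer ((Q : Subgroup G) : Set G) := by
    intro x hx
    rw [← hQy, mem_centralizer_iff]
    intro g hg
    obtain ⟨i, rfl⟩ := mem_zpowers_iff.1 hg
    exact ((Commute.zpow_right ((mem_centralizer_iff.1 hyC x hx) : Commute x y) i).eq).symm
  obtain ⟨k', r', u', hmem', -, hku', -, hC'⟩ :=
    options (m := 756) hG hn (by norm_num) (by norm_num) Q [(126, 2)] (by decide +kernel)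
  simp only [List.mem_singleton, Prod.mk.injEq] at hmem'
  obtain ⟨rfl, rfl⟩ := hmem'
  obtain rfl : u' = 3 := by omega
  have h := card_dvd_of_le hPQ
  rw [hC', card_of_prime (m := 540) (by rw [hn]) (by norm_num) P] at h
  norm_num at h

theorem ne_4200 (hG : ¬ IsMulCommutative G) : Nat.card G ≠ 4200 := by
  intro hn
  haveI : Fact (Nat.Prime 7) := ⟨by norm_num⟩
  obtain ⟨P⟩ : Nonempty (Sylow 7 G) := inferInstance
  have hP := card_of_prime (m := 600) (by rw [hn]) (by norm_num) P
  obtain ⟨k, r, u, hmem, hk, hku, hN, hC⟩ :=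
    options (m := 600) hG hn (by norm_num) (by norm_num) P [(50, 2), (50, 3), (50, 6)] (by decide +kernel)
  have hinv : ∀ y ∈ centralizer ((P : Subgroup G) : Set G), orderOf y = 2 → k = 50 →
      ∀ Q : Sylow 7 G, y • Q = Q → Q = P := fun y hyC hy hk50 =>
    fix_unique hG P hP (t := 7) hk (by omega) (by omega) hyC hy (by norm_num) (by
      rw [hk50, hn]; decide +kernel)
  have hnone : ∀ f ≤ 50, f % 7 = 1 → (50 - f) % 4 = 0 → f ≠ 1 := by decide
  simp only [List.mem_cons, List.not_mem_nil, or_false, Prod.mk.injEq] at hmem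
  have hfix : ∀ y ∈ centralizer ((P : Subgroup G) : Set G), orderOf y = 2 → k = 50 → False := by
    intro y hyC hy hk50
    have huniq := hinv y hyC hy hk50
    have hone : SylowFixed.fixCard 7 y = 1 := by
      haveI : Subsingleton {Q : Sylow 7 G // y • Q = Q} :=
        ⟨fun a b => Subtype.ext ((huniq _ a.2).trans (huniq _ b.2).symm)⟩
      exact Nat.card_eq_one_iff_unique.2
        ⟨inferInstance, ⟨⟨P, Sylow.smul_eq_iff_mem_normalizer.2 (centralizer_le_normalizer _ hyC)⟩⟩⟩
    have h4 := SylowFixed.four_dvd_moved (p := 7) hG (g := y) (by rw [← pow_two, ← hy, pow_orderOf_eq_one])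
    rw [hk, hone, hk50] at h4
    norm_num at h4
  rcases hmem with ⟨rfl, rfl⟩ | ⟨rfl, rfl⟩ | ⟨rfl, rfl⟩
  · obtain rfl : u = 6 := by omega
    obtain ⟨y, hyC, hy⟩ := exists_of_dvd_centralizer (q := 2) Nat.prime_two hC (by norm_num)
    exact hfix y hyC hy rfl
  · obtain rfl : u = 4 := by omega
    exact false_of_no_local hG hn (m := 600) (by norm_num) (by norm_num) P hk (by norm_num) hN hC
      (q := 2) Nat.prime_two (by norm_num) (by norm_num) (by norm_num) (by decide +kernel)
  · obtain rfl : u = 2 := by omega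
    obtain ⟨y, hyC, hy⟩ := exists_of_dvd_centralizer (q := 2) Nat.prime_two hC (by norm_num)
    exact hfix y hyC hy rfl

theorem ne_3960 (hG : ¬ IsMulCommutative G) : Nat.card G ≠ 3960 := by
  intro hn
  haveI : Fact (Nat.Prime 11) := ⟨by norm_num⟩
  obtain ⟨P⟩ : Nonempty (Sylow 11 G) := inferInstance
  have hP := card_of_prime (m := 360) (by rw [hn]) (by norm_num) P
  obtain ⟨k, r, u, hmem, hk, hku, hN, hC⟩ :=
    options (m := 360) hG hn (by norm_num) (by norm_num) P [(45, 2)] (by decide +kernel)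
  simp only [List.mem_singleton, Prod.mk.injEq] at hmem
  obtain ⟨rfl, rfl⟩ := hmem
  obtain rfl : u = 4 := by omega
  obtain ⟨y, hyC, hy, hyN⟩ := SylowFixed.exists_central P hP (a := 3) Nat.prime_two (by norm_num)
    (by rw [hN]; norm_num) (by rw [hC]; norm_num)
  exact false_of_central hG P hy hyN (Sylow.smul_eq_iff_mem_normalizer.2 (centralizer_le_normalizer _ hyC))
    (fix_unique hG P hP (t := 4) hk (by norm_num) (by norm_num) hyC hy (by norm_num)
      (by rw [hn]; decide +kernel))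

theorem ne_5940 (hG : ¬ IsMulCommutative G) : Nat.card G ≠ 5940 := by
  intro hn
  haveI : Fact (Nat.Prime 11) := ⟨by norm_num⟩
  obtain ⟨P⟩ : Nonempty (Sylow 11 G) := inferInstance
  have hP := card_of_prime (m := 540) (by rw [hn]) (by norm_num) P
  obtain ⟨k, r, u, hmem, hk, hku, hN, hC⟩ :=
    options (m := 540) hG hn (by norm_num) (by norm_num) P [(45, 2)] (by decide +kernel)
  simp only [List.mem_singleton, Prod.mk.injEq] at hmem
  obtain ⟨rfl, rfl⟩ := hmem
  obtain rfl : u = 6 := by omega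
  obtain ⟨y, hyC, hy⟩ := exists_of_dvd_centralizer (q := 2) Nat.prime_two hC (by norm_num)
  exact false_of_klein hG (by rw [hn]; norm_num) (by rw [hn]; norm_num) P (by rw [hC]; norm_num) hyC hy
    (fix_unique hG P hP (t := 4) hk (by norm_num) (by norm_num) hyC hy (by norm_num)
      (by rw [hn]; decide +kernel))

theorem ne_5460 (hG : ¬ IsMulCommutative G) : Nat.card G ≠ 5460 := by
  intro hn
  haveI : Fact (Nat.Prime 13) := ⟨by norm_num⟩
  obtain ⟨P⟩ : Nonempty (Sylow 13 G) := inferInstance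
  have hP := card_of_prime (m := 420) (by rw [hn]) (by norm_num) P
  obtain ⟨k, r, u, hmem, hk, hku, hN, hC⟩ :=
    options (m := 420) hG hn (by norm_num) (by norm_num) P [(105, 2), (105, 4)] (by decide +kernel)
  simp only [List.mem_cons, List.not_mem_nil, or_false, Prod.mk.injEq] at hmem
  rcases hmem with ⟨rfl, rfl⟩ | ⟨rfl, rfl⟩
  · obtain rfl : u = 2 := by omega
    obtain ⟨y, hyC, hy⟩ := exists_of_dvd_centralizer (q := 2) Nat.prime_two hC (by norm_num)
    exact false_of_klein hG (by rw [hn]; norm_num) (by rw [hn]; norm_num) P (by rw [hC]; norm_num) hyC hy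
      (fix_unique hG P hP (t := 8) hk (by norm_num) (by norm_num) hyC hy (by norm_num)
        (by rw [hn]; decide +kernel))
  · obtain rfl : u = 1 := by omega
    exact false_of_four hG (by rw [hn]; norm_num) P (by norm_num) hP (by rw [hC, mul_one])
      (by rw [hN])

theorem ne_4680 (hG : ¬ IsMulCommutative G) : Nat.card G ≠ 4680 := by
  intro hn
  haveI : Fact (Nat.Prime 13) := ⟨by norm_num⟩
  obtain ⟨P⟩ : Nonempty (Sylow 13 G) := inferInstance
  have hP := card_of_prime (m := 360) (by rw [hn]) (by norm_num) P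
  obtain ⟨k, r, u, hmem, hk, hku, hN, hC⟩ :=
    options (m := 360) hG hn (by norm_num) (by norm_num) P [(40, 3)] (by decide +kernel)
  simp only [List.mem_singleton, Prod.mk.injEq] at hmem
  obtain ⟨rfl, rfl⟩ := hmem
  obtain rfl : u = 3 := by omega
  obtain ⟨z, hzC, hz, hzN⟩ := SylowFixed.exists_central P hP (a := 2) Nat.prime_three (by norm_num)
    (by rw [hN]; norm_num) (by rw [hC]; norm_num)
  have hzP : z • P = P := Sylow.smul_eq_iff_mem_normalizer.2 (centralizer_le_normalizer _ hzC)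
  refine false_of_central_three hG (m := 520) (by rw [hn]; norm_num) (by norm_num) P hz hzN hzP ?_
  haveI : Fact (Nat.Prime 3) := ⟨Nat.prime_three⟩
  obtain ⟨i, hi⟩ := SylowFixed.exists_fixCard_eq P hP hzC
  have hle : SylowFixed.fixCard 13 z ≤ 40 := hk ▸ Finite.card_subtype_le _
  have hlt : SylowFixed.fixCard 13 z ≠ 40 := by
    intro h
    have hz1 : z = 1 := by
      refine SylowFixed.faithful (p := 13) (by rw [hk]; norm_num) fun Q => ?_
      by_contra hQ
      have := Finite.card_subtype_lt (p := fun R : Sylow 13 G => z • R = R) hQ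
      rw [hk] at this
      exact absurd h (ne_of_lt this)
    rw [hz1, orderOf_one] at hz
    omega
  have hmod : SylowFixed.fixCard 13 z % 3 = 1 := by
    have hzp : IsPGroup 3 (zpowers z) := IsPGroup.of_card (n := 1) (by rw [Nat.card_zpowers, hz, pow_one])
    have h1 := hzp.card_modEq_card_fixedPoints (Sylow 13 G)
    have he : MulAction.fixedPoints (zpowers z) (Sylow 13 G) = {Q | z • Q = Q} := by
      ext Q
      refine ⟨fun h => h ⟨z, mem_zpowers z⟩, fun h v => ?_⟩
      obtain ⟨j, hj⟩ := mem_zpowers_iff.1 v.2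
      show (v : G) • Q = Q
      rw [← hj]
      exact MulAction.mem_stabilizer_iff.1 ((MulAction.stabilizer G Q).zpow_mem h j)
    rw [he, hk] at h1
    exact h1.symm
  have hone : SylowFixed.fixCard 13 z = 1 := by omega
  intro Q hQ
  have hsub : Subsingleton {Q : Sylow 13 G // z • Q = Q} := (Nat.card_eq_one_iff_unique.1 hone).1
  exact congrArg Subtype.val (hsub.elim ⟨Q, hQ⟩ ⟨P, hzP⟩)

/-- Orders where every local subgroup above an intersection of index `p` is too large. -/
theorem false_of_inter (hG : ¬ IsMulCommutative G) {p : ℕ} [Fact p.Prime] {n a m : ℕ}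
    (hnG : Nat.card G = n) (hn : n = p ^ a * m) (hm : ¬ p ∣ m) (ha : 2 ≤ a)
    (hbad : ∀ mm ∈ Nat.divisors m, ∀ j ∈ Nat.divisors mm, j % p = 1 → j ≠ 1 → m / mm ≠ 1 →
      (m / mm).factorial % (2 * n) ≠ 0)
    (hks : ∀ k ∈ Nat.divisors m, k % p = 1 → k ≠ 1 → k % p ^ 2 = 1 → k.factorial % (2 * n) ≠ 0) : False := by
  obtain ⟨P⟩ : Nonempty (Sylow p G) := inferInstance
  obtain ⟨k, c, hk, hk1, hkp, hkc, hN, hfac⟩ := sylow_data hG (hnG.trans hn) hm (by omega) P
  have hm0 : 0 < m := Nat.pos_of_ne_zero fun h => hm (h ▸ dvd_zero p)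
  have hmod : Nat.card (Sylow p G) % p ^ 2 ≠ 1 := by
    intro h
    rw [hk] at h
    exact hks k (Nat.mem_divisors.2 ⟨⟨c, hkc.symm⟩, hm0.ne'⟩) hkp hk1 h
      (Nat.mod_eq_zero_of_dvd (hnG ▸ hfac))
  obtain ⟨Q, hQ, hD⟩ := exists_inter_of_mod P hmod
  obtain ⟨mm, j, hmm, hj, hjp, hj1, hmm1, hf, -, -⟩ := local_facts hG hnG hn hm ha hQ hD
  exact hbad mm (Nat.mem_divisors.2 ⟨hmm, hm0.ne'⟩) j
    (Nat.mem_divisors.2 ⟨hj, fun h => by rw [h, zero_dvd_iff] at hmm; omega⟩) hjp hj1 hmm1
    (Nat.mod_eq_zero_of_dvd hf)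

theorem ne_4500 (hG : ¬ IsMulCommutative G) : Nat.card G ≠ 4500 := fun hn =>
  haveI : Fact (Nat.Prime 5) := ⟨by norm_num⟩
  false_of_inter hG (p := 5) (a := 3) (m := 36) hn (by norm_num) (by norm_num) (by norm_num)
    (by decide +kernel) (by decide +kernel)

theorem ne_4725 (hG : ¬ IsMulCommutative G) : Nat.card G ≠ 4725 := fun hn =>
  haveI : Fact (Nat.Prime 5) := ⟨by norm_num⟩
  false_of_inter hG (p := 5) (a := 2) (m := 189) hn (by norm_num) (by norm_num) (by norm_num)
    (by decide +kernel) (by decide +kernel)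

theorem ne_5292 (hG : ¬ IsMulCommutative G) : Nat.card G ≠ 5292 := fun hn =>
  haveI : Fact (Nat.Prime 7) := ⟨by norm_num⟩
  false_of_inter hG (p := 7) (a := 2) (m := 108) hn (by norm_num) (by norm_num) (by norm_num)
    (by decide +kernel) (by decide +kernel)

theorem ne_6000 (hG : ¬ IsMulCommutative G) : Nat.card G ≠ 6000 := fun hn =>
  haveI : Fact (Nat.Prime 5) := ⟨by norm_num⟩
  false_of_inter hG (p := 5) (a := 3) (m := 48) hn (by norm_num) (by norm_num) (by norm_num)
    (by decide +kernel) (by decide +kernel)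

theorem ne_5880 (hG : ¬ IsMulCommutative G) : Nat.card G ≠ 5880 := by
  intro hn
  haveI : Fact (Nat.Prime 7) := ⟨by norm_num⟩
  obtain ⟨P⟩ : Nonempty (Sylow 7 G) := inferInstance
  have hnG : Nat.card G = 7 ^ 2 * 120 := by rw [hn]; norm_num
  obtain ⟨k, c, hk, hk1, hkp, hkc, hN, hfac⟩ := sylow_data hG hnG (by norm_num) (by norm_num) P
  have hk15 : k = 15 := by
    have : ∀ i ∈ Nat.divisors 120, i % 7 = 1 → i ≠ 1 → i.factorial % (2 * 5880) = 0 →
        i = 15 ∨ i = 120 := by decide +kernel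
    rcases this k (Nat.mem_divisors.2 ⟨⟨c, hkc.symm⟩, by norm_num⟩) hkp hk1
      (Nat.mod_eq_zero_of_dvd (hn ▸ hfac)) with h | h
    · exact h
    · subst h
      obtain rfl : c = 1 := by omega
      exact (normalizer_ne_self hG hnG (by norm_num) (by norm_num) le_rfl P (by rw [hN, mul_one])).elim
  subst hk15
  obtain rfl : c = 8 := by omega
  obtain ⟨Q, hQ, hD, hle⟩ := exists_two_local hG hn (m := 120) (j := 8) (c := 8) (by norm_num)
    (by norm_num) P hk (by norm_num) (by norm_num) (by decide +kernel) (by decide +kernel)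
  obtain ⟨mm, j, hmm, hj, hjp, hj1, hmm1, hf, hX, hXj⟩ :=
    local_facts hG hn (a := 2) (m := 120) (by norm_num) (by norm_num) le_rfl hQ hD
  set X := normalizer (((P : Subgroup G) ⊓ (Q : Subgroup G) : Subgroup G) : Set G) with hXdef
  have h1 := SylowLocal.card_eq_mul_inf P (H := X) (le_normalizer_inter hD)
  rw [hX, hXj] at h1
  have hsmall : ∀ mm ∈ Nat.divisors 120, ∀ i ∈ Nat.divisors mm, i % 7 = 1 → i ≠ 1 → 120 / mm ≠ 1 →
      (120 / mm).factorial % (2 * 5880) = 0 → i = 8 ∧ mm = 8 := by decide +kernel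
  obtain ⟨rfl, rfl⟩ := hsmall mm (Nat.mem_divisors.2 ⟨hmm, by norm_num⟩) j
    (Nat.mem_divisors.2 ⟨hj, fun h => by rw [h, zero_dvd_iff] at hmm; omega⟩) hjp hj1 hmm1
    (Nat.mod_eq_zero_of_dvd hf)
  omega

theorem ne_5400 (hG : ¬ IsMulCommutative G) : Nat.card G ≠ 5400 := by
  intro hn
  haveI : Fact (Nat.Prime 5) := ⟨by norm_num⟩
  obtain ⟨P⟩ : Nonempty (Sylow 5 G) := inferInstance
  have hnG : Nat.card G = 5 ^ 2 * 216 := by rw [hn]; norm_num
  obtain ⟨k, c, hk, hk1, hkp, hkc, hN, hfac⟩ := sylow_data hG hnG (by norm_num) (by norm_num) P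
  have hk36 : k = 36 := by
    have : ∀ i ∈ Nat.divisors 216, i % 5 = 1 → i ≠ 1 → i.factorial % (2 * 5400) = 0 →
        i = 36 ∨ i = 216 := by decide +kernel
    rcases this k (Nat.mem_divisors.2 ⟨⟨c, hkc.symm⟩, by norm_num⟩) hkp hk1
      (Nat.mod_eq_zero_of_dvd (hn ▸ hfac)) with h | h
    · exact h
    · subst h
      obtain rfl : c = 1 := by omega
      exact (normalizer_ne_self hG hnG (by norm_num) (by norm_num) le_rfl P (by rw [hN, mul_one])).elim
  subst hk36
  obtain rfl : c = 6 := by omega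
  obtain ⟨Q, hQ, hD, hle⟩ := exists_two_local hG hn (m := 216) (j := 6) (c := 6) (by norm_num)
    (by norm_num) P hk (by norm_num) (by norm_num) (by decide +kernel) (by decide +kernel)
  obtain ⟨mm, j, hmm, hj, hjp, hj1, hmm1, hf, hX, hXj⟩ :=
    local_facts hG hn (a := 2) (m := 216) (by norm_num) (by norm_num) le_rfl hQ hD
  set X := normalizer (((P : Subgroup G) ⊓ (Q : Subgroup G) : Subgroup G) : Set G) with hXdef
  have h1 := SylowLocal.card_eq_mul_inf P (H := X) (le_normalizer_inter hD)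
  rw [hX, hXj] at h1
  have hsmall : ∀ mm ∈ Nat.divisors 216, ∀ i ∈ Nat.divisors mm, i % 5 = 1 → i ≠ 1 → 216 / mm ≠ 1 →
      (216 / mm).factorial % (2 * 5400) = 0 → i = 6 ∧ (mm = 6 ∨ mm = 12 ∨ mm = 18) := by decide +kernel
  obtain ⟨rfl, hmm18⟩ := hsmall mm (Nat.mem_divisors.2 ⟨hmm, by norm_num⟩) j
    (Nat.mem_divisors.2 ⟨hj, fun h => by rw [h, zero_dvd_iff] at hmm; omega⟩) hjp hj1 hmm1
    (Nat.mod_eq_zero_of_dvd hf)
  obtain rfl : mm = 18 := by omega
  have h9 := sylow_number_half (p := 5) (H := X) (a := 2) (m := 9) (by norm_num)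
    (by rw [hX]) (by norm_num) (by norm_num)
  rw [hXj] at h9
  norm_num at h9

end CfsgLib.SmallSimple.Band6232
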