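import Cfsg.Agent.Lib.SmallSimple.Band6232.Check

/-!
A certificate for each order from 3641 to 6232.
-/

set_option autoImplicit false

namespace CfsgLib.SmallSimple.Band6232

/-- Certificates from 3641 on. -/
def band0 : List Cert := [.two 11 1 331 1, .old (.least 2), .two 3643 1 2 0, .two 2 2 911 1, .two 3 6 5 1, .two 2 1 1823 1, .two 7 1 521 1, .old (.sylow 3 1 1216 2 6 19 1), .two 41 1 89 1, .old (.least 2), .two 3 1 1217 1, .old (.least 2), .two 13 1 281 1, .old (.least 2), .old (.least 5), .two 2 3 457 1, .old (.least 3), .old (.least 2), .two 3659 1 2 0, .old (.sylow 61 1 60 2 0 2 0), .two 7 1 523 1, .two 2 1 1831 1, .old (.least 3), .two 2 4 229 1, .two 5 1 733 1, .old (.least 2), .two 19 1 193 1, .old (.least 2), .two 3 1 1223 1, .old (.least 2), .two 3671 1 2 0, .old (.sylow 17 1 216 2 3 3 3), .two 3673 1 2 0, .old (.least 2), .old (.least 3), .two 2 2 919 1, .two 3677 1 2 0, .old (.least 2), .two 13 1 283 1, .old (.sylow 5 1 736 2 5 23 1), .two 3 2 409 1, .old (.least 2), .two 29 1 127 1, .old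 (.sylow 3 1 1228 2 2 307 1), .old (.least 5), .old (.least 2), .two 3 1 1229 1, .two 2 3 461 1, .old (.least 7), .old (.least 2), .two 3691 1 2 0, .old (.least 2), .two 3 1 1231 1, .two 2 1 1847 1, .two 5 1 739 1, .skip, .two 3697 1 2 0, .two 2 1 43 2, .two 3 3 137 1, .old (.least 2), .two 3701 1 2 0, .old (.least 2), .two 7 1 23 2, .two 2 3 463 1, .old (.least 3), .old (.least 2), .two 11 1 337 1, .old (.sylow 103 1 36 2 2 3 2), .two 3709 1 2 0, .old (.least 2), .two 3 1 1237 1, .two 2 7 29 1]

theorem band0_ok : checkBandFrom 3641 band0 = true := by decide +kernel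

theorem band0_length : band0.length = 72 := rfl

/-- Certificates from 3713 on. -/
def band1 : List Cert := [.two 47 1 79 1, .old (.least 2), .two 5 1 743 1, .two 2 2 929 1, .old (.least 3), .old (.least 2), .two 3719 1 2 0, .old (.sylow 31 1 120 2 0 2 0), .two 61 2 2 0, .two 2 1 1861 1, .old (.least 3), .old (.least 2), .two 5 2 149 1, .old (.least 2), .two 3727 1 2 0, .two 2 4 233 1, .old (.least 3), .old (.least 2), .old (.least 7), .old (.sylow 311 1 12 2 2 3 1), .two 3733 1 2 0, .two 2 1 1867 1, .old (.least 3), .two 2 3 467 1, .two 37 1 101 1, .old (.least 2), .two 3739 1 2 0, .old (.least 2), .old (.least 3), .two 2 1 1871 1, .two 19 1 197 1, .skip, .old (.least 5), .two 2 1 1873 1, .two 3 1 1249 1, .two 2 2 937 1, .two 23 1 163 1, .old (.least 2), .two 11 2 31 1, .old (.sylow 7 1 536 2 3 67 1), .two 3 3 139 1, .two 2 1 1877 1, .two 5 1 751 1, .old (.sylow 3 1 1252 2 2 313 1), .two 13 1 17 2, .two 2 1 1879 1, .old (.least 3), .old (.sylow 47 1 80 2 4 5 1), .two 3761 1 2 0, .old (.least 2), .two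 53 1 71 1, .two 2 2 941 1, .old (.least 3), .old (.least 2), .two 3767 1 2 0, .old (.sylow 157 1 24 2 3 3 1), .two 3769 1 2 0, .old (.least 2), .two 3 2 419 1, .old (.least 2), .two 7 3 11 1, .old (.least 2), .two 5 2 151 1, .two 2 6 59 1, .two 3 1 1259 1, .two 2 1 1889 1, .two 3779 1 2 0, .skip, .two 19 1 199 1, .old (.least 2), .old (.least 3), .old (.sylow 11 1 344 2 3 43 1)]

theorem band1_ok : checkBandFrom 3713 band1 = true := by decide +kernel

theorem band1_length : band1.length = 72 := rfl

/-- Certificates from 3785 on. -/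
def band2 : List Cert := [.two 5 1 757 1, .old (.least 2), .two 7 1 541 1, .two 2 2 947 1, .two 3 2 421 1, .old (.least 2), .two 17 1 223 1, .old (.sylow 3 1 1264 2 4 79 1), .two 3793 1 2 0, .old (.least 2), .old (.least 3), .old (.least 2), .two 3797 1 2 0, .old (.least 2), .two 29 1 131 1, .old (.sylow 19 1 200 2 3 5 2), .old (.least 3), .two 2 1 1901 1, .two 3803 1 2 0, .old (.sylow 317 1 12 2 2 3 1), .two 5 1 761 1, .old (.least 2), .two 3 4 47 1, .old (.sylow 7 1 544 2 5 17 1), .two 13 1 293 1, .old (.least 2), .two 37 1 103 1, .two 2 2 953 1, .old (.least 3), .two 2 1 1907 1, .old (.least 5), .old (.sylow 53 1 72 2 3 3 2), .two 11 1 347 1, .old (.least 2), .old (.least 3), .old (.least 2), .two 3821 1 2 0, .old (.least 2), .two 3823 1 2 0, .two 2 4 239 1, .old (.least 3), .two 2 1 1913 1, .two 43 1 89 1, .old (.sylow 11 1 348 2 0 2 0), .two 7 1 547 1, .old (.least 2), .two 3 1 1277 1, .two 2 3 479 1, .two 3833 1 2 0, .old (.least 2), .old (.least 5), .old (.least 2), .two 3 1 1279 1, .old (.least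 2), .two 11 1 349 1, .old (.sylow 5 1 768 2 8 3 1), .two 23 1 167 1, .old (.least 2), .old (.least 3), .two 2 2 31 2, .two 5 1 769 1, .old (.least 2), .two 3847 1 2 0, .old (.sylow 13 1 296 2 3 37 1), .two 3 1 1283 1, .old (.least 2), .two 3851 1 2 0, .old (.sylow 107 1 36 2 2 3 2), .two 3853 1 2 0, .old (.least 2), .old (.least 3), .two 2 4 241 1]

theorem band2_ok : checkBandFrom 3785 band2 = true := by decide +kernel

theorem band2_length : band2.length = 72 := rfl

/-- Certificates from 3857 on. -/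
def band3 : List Cert := [.old (.least 7), .old (.least 2), .two 17 1 227 1, .old (.least 2), .old (.sylow 11 1 351 3 3 13 1), .two 2 1 1931 1, .two 3863 1 2 0, .old (.sylow 23 1 168 2 0 2 0), .two 5 1 773 1, .two 2 1 1933 1, .two 3 1 1289 1, .two 2 2 967 1, .two 53 1 73 1, .old (.least 2), .two 7 2 79 1, .two 2 5 11 2, .two 3 1 1291 1, .old (.least 2), .two 5 3 31 1, .old (.sylow 17 1 228 2 0 2 0), .two 3877 1 2 0, .old (.least 2), .two 3 2 431 1, .old (.sylow 5 1 776 2 3 97 1), .two 3881 1 2 0, .old (.least 2), .two 11 1 353 1, .two 2 2 971 1, .old (.least 3), .old (.least 2), .two 13 2 23 1, .two 2 4 3 5, .two 3889 1 2 0, .old (.least 2), .two 3 1 1297 1, .old (.least 2), .two 17 1 229 1, .old (.least 2), .old (.least 5), .two 2 3 487 1, .two 3 2 433 1, .two 2 1 1949 1, .two 7 1 557 1, .old (.sylow 13 1 300 2 0 2 0), .two 47 1 83 1, .two 2 1 1951 1, .two 3 1 1301 1, .two 2 6 61 1, .old (.least 5), .old (.least 2), .two 3907 1 2 0, .two 2 2 977 1, .two 3 1 1303 1, .old (.least 2), .two 3911 1 2 0, .old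 (.sylow 163 1 24 2 3 3 1), .old (.least 7), .old (.least 2), .old (.sylow 5 1 783 3 3 29 1), .old (.least 2), .two 3917 1 2 0, .old (.least 2), .two 3919 1 2 0, .old (.sylow 7 2 80 2 4 5 1), .two 3 1 1307 1, .old (.least 2), .two 3923 1 2 0, .old (.sylow 109 1 36 2 2 3 2), .two 5 2 157 1, .old (.least 2), .old (.least 3), .two 2 3 491 1]

theorem band3_ok : checkBandFrom 3857 band3 = true := by decide +kernel

theorem band3_length : band3.length = 72 := rfl

/-- Certificates from 3929 on. -/
def band4 : List Cert := [.two 3929 1 2 0, .old (.least 2), .two 3931 1 2 0, .two 2 2 983 1, .old (.least 3), .old (.least 2), .two 5 1 787 1, .old (.sylow 3 1 1312 2 5 41 1), .two 31 1 127 1, .old (.least 2), .old (.least 3), .old (.least 2), .two 7 1 563 1, .old (.least 2), .two 3943 1 2 0, .old (.sylow 17 1 232 2 3 29 1), .old (.least 3), .two 2 1 1973 1, .two 3947 1 2 0, .old (.sylow 47 1 84 2 0 2 0), .two 11 1 359 1, .old (.least 2), .two 3 2 439 1, .old (.sylow 13 1 304 2 4 19 1), .two 59 1 67 1, .old (.least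 2), .old (.least 5), .old (.least 2), .two 3 1 1319 1, .two 2 1 1979 1, .two 37 1 107 1, .skip, .two 17 1 233 1, .old (.least 2), .two 3 1 1321 1, .two 2 2 991 1, .old (.least 5), .old (.least 2), .two 3967 1 2 0, .two 2 7 31 1, .two 3 4 7 2, .old (.least 2), .two 11 1 19 2, .old (.sylow 3 1 1324 2 2 331 1), .two 29 1 137 1, .two 2 1 1987 1, .old (.least 3), .old (.sylow 7 1 568 2 3 71 1), .two 41 1 97 1, .old (.least 2), .two 23 1 173 1, .old (.least 2), .two 3 1 1327 1, .old (.least 2), .two 7 1 569 1, .old (.sylow 83 1 48 2 4 3 1), .two 5 1 797 1, .two 2 1 1993 1, .two 3 2 443 1, .two 2 2 997 1, .two 3989 1 2 0, .old (.least 2), .two 13 1 307 1, .two 2 3 499 1, .two 3 1 11 3, .two 2 1 1997 1, .old (.least 5), .old (.sylow 37 1 108 2 2 3 3), .two 7 1 571 1, .two 2 1 1999 1, .old (.least 3), .two 2 5 5 3]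

theorem band4_ok : checkBandFrom 3929 band4 = true := by decide +kernel

theorem band4_length : band4.length = 72 := rfl

/-- Certificates from 4001 on. -/
def band5 : List Cert := [.two 4001 1 2 0, .old (.least 2), .two 4003 1 2 0, .old (.least 2), .old (.least 3), .two 2 1 2003 1, .two 4007 1 2 0, .old (.sylow 3 1 1336 2 3 167 1), .two 19 1 211 1, .old (.least 2), .old (.least 3), .old (.least 2), .two 4013 1 2 0, .old (.least 2), .old (.least 5), .two 2 4 251 1, .old (.least 3), .old (.least 2), .two 4019 1 2 0, .old (.sylow 67 1 60 2 0 2 0), .two 4021 1 2 0, .two 2 1 2011 1, .two 3 3 149 1, .two 2 3 503 1, .old (.least 5), .old (.least 2), .two 4027 1 2 0, .old (.least 2), .old (.least 3), .old (.least 2), .two 29 1 139 1, .skip, .two 37 1 109 1, .two 2 1 2017 1, .old (.least 3), .two 2 2 1009 1, .two 11 1 367 1, .old (.least 2), .two 7 1 577 1, .old (.sylow 5 1 808 2 3 101 1), .two 3 2 449 1, .old (.least 2), .two 13 1 311 1, .old (.sylow 3 1 1348 2 2 337 1), .two 5 1 809 1, .old (.least 2), .old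 (.least 3), .old (.sylow 11 1 368 2 4 23 1), .two 4049 1 2 0, .old (.least 2), .two 4051 1 2 0, .two 2 2 1013 1, .old (.least 3), .two 2 1 2027 1, .two 5 1 811 1, .old (.sylow 13 2 24 2 3 3 1), .two 4057 1 2 0, .two 2 1 2029 1, .old (.least 3), .old (.least 2), .two 31 1 131 1, .old (.least 2), .two 17 1 239 1, .two 2 5 127 1, .old (.least 3), .old (.least 2), .two 7 2 83 1, .old (.sylow 113 1 36 2 2 3 2), .two 13 1 313 1, .old (.least 2), .old (.least 3), .two 2 3 509 1]

theorem band5_ok : checkBandFrom 4001 band5 = true := by decide +kernel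

theorem band5_length : band5.length = 72 := rfl

/-- Certificates from 4073 on. -/
def band6 : List Cert := [.two 4073 1 2 0, .old (.least 2), .two 5 2 163 1, .two 2 2 1019 1, .two 3 3 151 1, .two 2 1 2039 1, .two 4079 1 2 0, .skip, .old (.least 7), .old (.least 2), .two 3 1 1361 1, .two 2 2 1021 1, .old (.least 5), .old (.least 2), .two 61 1 67 1, .old (.sylow 7 1 584 2 3 73 1), .old (.least 3), .old (.least 2), .two 4091 1 2 0, .old (.sylow 11 1 372 2 0 2 0), .two 4093 1 2 0, .old (.least 2), .old (.least 3), .two 2 12 2 0, .two 17 1 241 1, .old (.least 2), .two 4099 1 2 0, .old (.least 2), .two 3 1 1367 1, .old (.least 2), .two 11 1 373 1, .old (.sylow 19 1 216 2 3 3 3), .two 5 1 821 1, .two 2 1 2053 1, .two 3 1 37 2, .old (.least 2), .two 7 1 587 1, .old (.least 2), .two 4111 1 2 0, .two 2 4 257 1, .two 3 2 457 1, .old (.least 2), .two 5 1 823 1, .old (.sylow 3 1 1372 2 2 7 3), .two 23 1 179 1, .old (.least 2), .two 3 1 1373 1, .old (.sylow 103 1 40 2 3 5 1), .two 13 1 317 1, .old (.least 2), .old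 (.least 7), .two 2 2 1031 1, .old (.least 3), .two 2 1 2063 1, .two 4127 1 2 0, .old (.sylow 43 1 96 2 5 3 1), .two 4129 1 2 0, .old (.least 2), .two 3 5 17 1, .two 2 2 1033 1, .two 4133 1 2 0, .old (.least 2), .two 5 1 827 1, .old (.sylow 47 1 88 2 3 11 1), .old (.least 3), .two 2 1 2069 1, .two 4139 1 2 0, .old (.sylow 23 1 180 2 0 2 0), .two 41 1 101 1, .old (.least 2), .two 3 1 1381 1, .old (.sylow 7 1 592 2 4 37 1)]

theorem band6_ok : checkBandFrom 4073 band6 = true := by decide +kernel

theorem band6_length : band6.length = 72 := rfl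

/-- Certificates from 4145 on. -/
def band7 : List Cert := [.two 5 1 829 1, .old (.least 2), .old (.least 11), .old (.least 2), .two 3 2 461 1, .old (.least 2), .two 7 1 593 1, .old (.sylow 3 1 1384 2 3 173 1), .two 4153 1 2 0, .old (.least 2), .old (.least 3), .two 2 2 1039 1, .two 4157 1 2 0, .old (.least 2), .two 4159 1 2 0, .old (.sylow 13 1 320 2 6 5 1), .old (.least 3), .two 2 1 2081 1, .two 23 1 181 1, .old (.sylow 347 1 12 2 2 3 1), .old (.least 5), .two 2 1 2083 1, .two 3 2 463 1, .two 2 3 521 1, .two 11 1 379 1, .old (.least 2), .two 43 1 97 1, .old (.least 2), .old (.least 3), .two 2 1 2087 1, .two 5 2 167 1, .old (.sylow 29 1 144 2 4 3 2), .two 4177 1 2 0, .two 2 1 2089 1, .old (.least 3), .old (.least 2), .two 37 1 113 1, .old (.least 2), .two 47 1 89 1, .two 2 3 523 1, .old (.sylow 5 1 837 3 3 31 1), .old (.least 2), .two 53 1 79 1, .old (.sylow 3 1 1396 2 2 349 1), .two 59 1 71 1, .old (.least 2), .old (.least 3), .two 2 5 131 1, .two 7 1 599 1, .old (.least 2), .two 5 1 839 1, .two 2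 2 1049 1, .two 3 1 1399 1, .two 2 1 2099 1, .old (.least 13), .skip, .two 4201 1 2 0, .old (.least 2), .two 3 2 467 1, .two 2 2 1051 1, .two 5 1 29 2, .old (.least 2), .two 7 1 601 1, .two 2 4 263 1, .old (.least 3), .old (.least 2), .two 4211 1 2 0, .skip, .two 11 1 383 1, .old (.least 2), .old (.least 3), .old (.sylow 17 1 248 2 3 31 1)]

theorem band7_ok : checkBandFrom 4145 band7 = true := by decide +kernel

theorem band7_length : band7.length = 72 := rfl

/-- Certificates from 4217 on. -/
def band8 : List Cert := [.two 4217 1 2 0, .old (.least 2), .two 4219 1 2 0, .old (.least 2), .old (.least 3), .two 2 1 2111 1, .two 41 1 103 1, .old (.sylow 3 1 1408 2 7 11 1), .two 5 2 13 2, .two 2 1 2113 1, .two 3 1 1409 1, .old (.least 2), .two 4229 1 2 0, .old (.least 2), .two 4231 1 2 0, .two 2 3 23 2, .old (.least 3), .old (.least 2), .old (.least 5), .old (.sylow 353 1 12 2 2 3 1), .two 19 1 223 1, .old (.least 2), .two 3 3 157 1, .old (.sylow 5 1 848 2 4 53 1), .two 4241 1 2 0, .old (.least 2), .two 4243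 1 2 0, .two 2 2 1061 1, .old (.least 3), .old (.least 2), .two 31 1 137 1, .old (.sylow 59 1 72 2 3 3 2), .two 7 1 607 1, .old (.least 2), .old (.least 3), .two 2 2 1063 1, .two 4253 1 2 0, .old (.least 2), .old (.least 5), .old (.sylow 7 1 608 2 5 19 1), .old (.least 3), .two 2 1 2129 1, .two 4259 1 2 0, .old (.sylow 71 1 60 2 0 2 0), .two 4261 1 2 0, .two 2 1 2131 1, .old (.least 3), .old (.sylow 13 1 328 2 3 41 1), .two 5 1 853 1, .old (.least 2), .two 17 1 251 1, .old (.least 2), .two 3 1 1423 1, .old (.least 2), .two 4271 1 2 0, .old (.sylow 89 1 48 2 4 3 1), .two 4273 1 2 0, .two 2 1 2137 1, .old (.least 3), .two 2 2 1069 1, .old (.least 7), .old (.least 2), .two 11 1 389 1, .old (.sylow 5 1 856 2 3 107 1), .two 3 1 1427 1, .two 2 1 2141 1, .two 4283 1 2 0, .old (.sylow 17 1 252 2 0 2 0), .two 5 1 857 1, .two 2 1 2143 1, .two 3 1 1429 1, .two 2 6 67 1]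

theorem band8_ok : checkBandFrom 4217 band8 = true := by decide +kernel

theorem band8_length : band8.length = 72 := rfl

/-- Certificates from 4289 on. -/
def band9 : List Cert := [.two 4289 1 2 0, .old (.least 2), .two 7 1 613 1, .old (.least 2), .two 3 4 53 1, .old (.least 2), .two 5 1 859 1, .old (.sylow 3 1 1432 2 3 179 1), .two 4297 1 2 0, .old (.least 2), .two 3 1 1433 1, .old (.least 2), .old (.least 11), .old (.least 2), .two 13 1 331 1, .two 2 4 269 1, .old (.least 3), .two 2 1 2153 1, .two 59 1 73 1, .old (.sylow 359 1 12 2 2 3 1), .two 31 1 139 1, .old (.least 2), .two 3 2 479 1, .old (.sylow 11 1 392 2 3 7 2), .two 19 1 227 1, .old (.least 2), .two 5 1 863 1, .old (.least 2), .two 3 1 1439 1, .old (.least 2), .two 7 1 617 1, .skip, .two 29 1 149 1, .two 2 1 2161 1, .old (.least 3), .old (.least 2), .two 5 2 173 1, .old (.least 2), .two 4327 1 2 0, .two 2 3 541 1, .old (.least 3), .old (.least 2), .two 61 1 71 1, .old (.sylow 3 1 1444 2 2 19 2), .two 7 1 619 1, .old (.least 2), .old (.least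 3), .two 2 4 271 1, .two 4337 1 2 0, .old (.least 2), .two 4339 1 2 0, .old (.least 2), .two 3 1 1447 1, .old (.least 2), .two 43 1 101 1, .old (.sylow 181 1 24 2 3 3 1), .old (.least 5), .old (.least 2), .old (.sylow 3 3 161 7 1 23 1), .two 2 2 1087 1, .two 4349 1 2 0, .old (.least 2), .two 19 1 229 1, .two 2 8 17 1, .two 3 1 1451 1, .old (.least 2), .old (.least 5), .old (.sylow 11 2 36 2 2 3 2), .two 4357 1 2 0, .two 2 1 2179 1, .two 3 1 1453 1, .old (.sylow 109 1 40 2 3 5 1)]

theorem band9_ok : checkBandFrom 4289 band9 = true := by decide +kernel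

theorem band9_length : band9.length = 72 := rfl

/-- Certificates from 4361 on. -/
def band10 : List Cert := [.two 7 2 89 1, .old (.least 2), .two 4363 1 2 0, .two 2 2 1091 1, .old (.least 3), .old (.least 2), .two 11 1 397 1, .old (.sylow 13 1 336 2 0 2 0), .two 17 1 257 1, .old (.least 2), .old (.least 3), .two 2 2 1093 1, .two 4373 1 2 0, .two 2 1 3 7, .two 5 4 7 1, .two 2 3 547 1, .two 3 1 1459 1, .old (.least 2), .two 29 1 151 1, .old (.sylow 73 1 60 2 0 2 0), .two 13 1 337 1, .old (.least 2), .two 3 2 487 1, .two 2 5 137 1, .two 5 1 877 1, .old (.least 2), .two 41 1 107 1, .two 2 2 1097 1, .old (.least 3), .old (.least 2), .two 4391 1 2 0, .old (.sylow 61 1 72 2 3 3 2), .two 23 1 191 1, .two 2 1 13 3, .old (.least 3), .old (.least 2), .two 4397 1 2 0, .old (.least 2), .two 53 1 83 1, .old (.sylow 11 1 400 2 4 5 2), .two 3 3 163 1, .old (.least 2), .old (.least 7), .old (.sylow 3 1 1468 2 2 367 1), .two 5 1 881 1, .two 2 1 2203 1, .old (.least 3), .old (.sylow 19 1 232 2 3 29 1), .two 4409 1 2 0,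 .old (.least 2), .two 11 1 401 1, .two 2 2 1103 1, .two 3 1 1471 1, .two 2 1 2207 1, .two 5 1 883 1, .old (.sylow 23 1 192 2 6 3 1), .two 7 1 631 1, .two 2 1 47 2, .two 3 2 491 1, .old (.least 2), .two 4421 1 2 0, .old (.least 2), .two 4423 1 2 0, .old (.sylow 79 1 56 2 3 7 1), .old (.least 3), .two 2 1 2213 1, .two 19 1 233 1, .old (.sylow 41 1 108 2 2 3 3), .two 43 1 103 1, .old (.least 2), .old (.least 3), .two 2 4 277 1]

theorem band10_ok : checkBandFrom 4361 band10 = true := by decide +kernel

theorem band10_length : band10.length = 72 := rfl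

/-- Certificates from 4433 on. -/
def band11 : List Cert := [.old (.least 11), .old (.least 2), .two 5 1 887 1, .two 2 2 1109 1, .old (.least 3), .old (.least 2), .two 23 1 193 1, .old (.sylow 37 1 120 2 0 2 0), .two 4441 1 2 0, .two 2 1 2221 1, .two 3 1 1481 1, .old (.least 2), .old (.least 5), .old (.least 2), .two 4447 1 2 0, .two 2 5 139 1, .two 3 1 1483 1, .old (.least 2), .two 4451 1 2 0, .old (.sylow 53 1 84 2 0 2 0), .two 61 1 73 1, .old (.least 2), .old (.sylow 5 1 891 3 4 11 1), .two 2 3 557 1, .two 4457 1 2 0, .old (.least 2), .two 7 3 13 1, .old (.least 2), .two 3 1 1487 1, .old (.least 2), .two 4463 1 2 0, .old (.sylow 31 1 144 2 4 3 2), .old (.least 5), .old (.least 2), .two 3 1 1489 1, .two 2 2 1117 1, .two 41 1 109 1, .old (.least 2), .two 17 1 263 1, .old (.sylow 13 1 344 2 3 43 1), .old (.least 3), .two 2 1 2237 1, .two 5 2 179 1, .old (.sylow 3 1 1492 2 2 373 1), .two 11 2 37 1, .two 2 1 2239 1, .two 3 1 1493 1, .old (.sylow 5 1 896 2 7 7 1), .two 4481 1 2 0, .old (.least 2), .two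 4483 1 2 0, .old (.least 2), .old (.least 3), .two 2 1 2243 1, .two 7 1 641 1, .old (.sylow 17 1 264 2 0 2 0), .two 67 2 2 0, .old (.least 2), .two 3 2 499 1, .two 2 2 1123 1, .two 4493 1 2 0, .old (.least 2), .old (.least 5), .two 2 4 281 1, .two 3 1 1499 1, .old (.least 2), .two 11 1 409 1, .skip, .two 7 1 643 1, .two 2 1 2251 1, .old (.least 3), .two 2 3 563 1]

theorem band11_ok : checkBandFrom 4433 band11 = true := by decide +kernel

theorem band11_length : band11.length = 72 := rfl

/-- Certificates from 4505 on. -/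
def band12 : List Cert := [.old (.least 5), .old (.least 2), .two 4507 1 2 0, .old (.least 2), .two 3 3 167 1, .old (.least 2), .two 13 1 347 1, .old (.sylow 3 1 1504 2 5 47 1), .two 4513 1 2 0, .old (.least 2), .old (.least 3), .two 2 2 1129 1, .two 4517 1 2 0, .old (.least 2), .two 4519 1 2 0, .old (.sylow 113 1 40 2 3 5 1), .old (.least 3), .old (.least 2), .two 4523 1 2 0, .old (.sylow 13 1 348 2 0 2 0), .two 5 2 181 1, .old (.least 2), .two 3 2 503 1, .two 2 4 283 1, .two 7 1 647 1, .old (.least 2), .two 23 1 197 1, .old (.least 2), .two 3 1 1511 1, .two 2 1 2267 1, .two 5 1 907 1, .old (.sylow 7 1 648 2 3 3 4), .two 13 1 349 1, .two 2 1 2269 1, .old (.least 3), .old (.least 2), .two 19 1 239 1, .old (.least 2), .old (.least 7), .two 2 6 71 1, .old (.least 3), .two 2 1 2273 1, .two 4547 1 2 0, .old (.sylow 3 1 1516 2 2 379 1), .two 4549 1 2 0, .old (.least 2), .old (.least 3), .two 2 3 569 1, .two 29 1 157 1, .old (.least 2), .two 5 1 911 1, .old (.least 2), .old (.least 3), .old (.least 2), .two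 47 1 97 1, .old (.sylow 19 1 240 2 0 2 0), .two 4561 1 2 0, .two 2 1 2281 1, .two 3 3 13 2, .old (.least 2), .old (.least 5), .old (.least 2), .two 4567 1 2 0, .two 2 3 571 1, .two 3 1 1523 1, .old (.least 2), .two 7 1 653 1, .old (.sylow 127 1 36 2 2 3 2), .two 17 1 269 1, .two 2 1 2287 1, .old (.least 3), .old (.sylow 11 1 416 2 5 13 1)]

theorem band12_ok : checkBandFrom 4505 band12 = true := by decide +kernel

theorem band12_length : band12.length = 72 := rfl

/-- Certificates from 4577 on. -/
def band13 : List Cert := [.two 23 1 199 1, .old (.least 2), .two 19 1 241 1, .old (.least 2), .two 3 2 509 1, .old (.least 2), .two 4583 1 2 0, .old (.sylow 3 1 1528 2 3 191 1), .old (.least 5), .two 2 1 2293 1, .old (.least 3), .old (.least 2), .two 13 1 353 1, .old (.least 2), .two 4591 1 2 0, .old (.sylow 7 1 656 2 4 41 1), .two 3 1 1531 1, .two 2 1 2297 1, .two 5 1 919 1, .old (.sylow 383 1 12 2 2 3 1), .two 4597 1 2 0, .old (.least 2), .old (.least 3), .old (.sylow 23 1 200 2 3 5 2), .two 43 1 107 1, .old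 (.least 2), .two 4603 1 2 0, .two 2 2 1151 1, .old (.least 3), .old (.least 2), .two 17 1 271 1, .two 2 9 3 2, .two 11 1 419 1, .old (.least 2), .old (.least 3), .two 2 2 1153 1, .two 7 1 659 1, .old (.least 2), .old (.least 5), .two 2 3 577 1, .two 3 5 19 1, .two 2 1 2309 1, .two 31 1 149 1, .skip, .two 4621 1 2 0, .two 2 1 2311 1, .old (.least 3), .two 2 4 17 2, .two 5 3 37 1, .old (.least 2), .two 7 1 661 1, .old (.least 2), .two 3 1 1543 1, .old (.least 2), .two 11 1 421 1, .old (.sylow 193 1 24 2 3 3 1), .two 41 1 113 1, .old (.least 2), .old (.least 3), .old (.least 2), .two 4637 1 2 0, .old (.least 2), .two 4639 1 2 0, .old (.sylow 5 1 928 2 5 29 1), .old (.least 3), .old (.least 2), .two 4643 1 2 0, .old (.sylow 43 1 108 2 2 3 3), .two 5 1 929 1, .old (.least 2), .two 3 1 1549 1, .old (.sylow 7 1 664 2 3 83 1)]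

theorem band13_ok : checkBandFrom 4577 band13 = true := by decide +kernel

theorem band13_length : band13.length = 72 := rfl

/-- Certificates from 4649 on. -/
def band14 : List Cert := [.two 4649 1 2 0, .old (.least 2), .two 4651 1 2 0, .two 2 2 1163 1, .old (.least 3), .old (.least 2), .old (.least 5), .old (.sylow 3 1 1552 2 4 97 1), .two 4657 1 2 0, .old (.least 2), .two 3 1 1553 1, .old (.least 2), .two 59 1 79 1, .old (.least 2), .two 4663 1 2 0, .old (.sylow 11 1 424 2 3 53 1), .old (.least 3), .two 2 1 2333 1, .two 13 1 359 1, .old (.sylow 389 1 12 2 2 3 1), .old (.least 7), .old (.least 2), .two 3 3 173 1, .two 2 6 73 1, .two 4673 1 2 0, .old (.least 2), .old (.least 5), .old (.least 2), .two 3 1 1559 1, .two 2 1 2339 1, .two 4679 1 2 0, .skip, .two 31 1 151 1, .two 2 1 2341 1, .old (.least 3), .two 2 2 1171 1, .two 5 1 937 1, .old (.least 2), .two 43 1 109 1, .two 2 4 293 1, .two 3 2 521 1, .old (.least 2), .two 4691 1 2 0, .old (.sylow 23 1 204 2 0 2 0), .two 13 1 19 2, .two 2 1 2347 1, .old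 (.least 3), .two 2 3 587 1, .old (.least 7), .old (.least 2), .two 37 1 127 1, .old (.least 2), .two 3 1 1567 1, .two 2 1 2351 1, .two 4703 1 2 0, .old (.sylow 7 2 96 2 5 3 1), .two 5 1 941 1, .old (.least 2), .two 3 2 523 1, .old (.least 2), .two 17 1 277 1, .old (.least 2), .two 7 1 673 1, .old (.sylow 19 1 248 2 3 31 1), .two 3 1 1571 1, .two 2 1 2357 1, .old (.least 5), .old (.sylow 131 1 36 2 2 3 2), .two 53 1 89 1, .old (.least 2), .old (.least 3), .old (.sylow 59 1 80 2 4 5 1)]

theorem band14_ok : checkBandFrom 4649 band14 = true := by decide +kernel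

theorem band14_length : band14.length = 72 := rfl

/-- Certificates from 4721 on. -/
def band15 : List Cert := [.two 4721 1 2 0, .old (.least 2), .two 4723 1 2 0, .two 2 2 1181 1, .skip, .old (.least 2), .two 29 1 163 1, .old (.sylow 3 1 1576 2 3 197 1), .two 4729 1 2 0, .old (.least 2), .old (.least 3), .old (.least 2), .two 4733 1 2 0, .old (.least 2), .two 5 1 947 1, .two 2 7 37 1, .two 3 1 1579 1, .old (.least 2), .two 7 1 677 1, .old (.sylow 5 1 948 2 0 2 0), .two 11 1 431 1, .two 2 1 2371 1, .old (.least 3), .two 2 3 593 1, .old (.least 5), .old (.least 2), .two 47 1 101 1, .two 2 2 1187 1, .two 3 1 1583 1, .old (.least 2), .two 4751 1 2 0, .old (.sylow 11 1 432 2 4 3 3), .two 7 2 97 1, .two 2 1 2377 1, .old (.least 3), .old (.least 2), .two 67 1 71 1, .old (.least 2), .two 4759 1 2 0, .skip, .two 3 2 23 2, .two 2 1 2381 1, .two 11 1 433 1, .old (.sylow 3 1 1588 2 2 397 1), .two 5 1 953 1, .two 2 1 2383 1, .old (.least 3), .two 2 5 149 1, .two 19 1 251 1, .old (.least 2), .two 13 1 367 1, .two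 2 2 1193 1, .old (.least 3), .old (.least 2), .two 5 2 191 1, .old (.sylow 199 1 24 2 3 3 1), .two 17 1 281 1, .two 2 1 2389 1, .two 3 4 59 1, .old (.least 2), .two 7 1 683 1, .old (.least 2), .two 4783 1 2 0, .old (.sylow 23 1 208 2 4 13 1), .old (.least 3), .two 2 1 2393 1, .two 4787 1 2 0, .old (.sylow 19 1 252 2 0 2 0), .two 4789 1 2 0, .old (.least 2), .two 3 1 1597 1, .two 2 3 599 1]

theorem band15_ok : checkBandFrom 4721 band15 = true := by decide +kernel

theorem band15_length : band15.length = 72 := rfl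

/-- Certificates from 4793 on. -/
def band16 : List Cert := [.two 4793 1 2 0, .old (.least 2), .old (.least 5), .old (.least 2), .old (.least 3), .two 2 1 2399 1, .two 4799 1 2 0, .old (.sylow 3 1 1600 2 6 5 2), .two 4801 1 2 0, .two 2 1 7 4, .two 3 1 1601 1, .two 2 2 1201 1, .two 5 1 31 2, .old (.least 2), .old (.least 11), .two 2 3 601 1, .old (.least 3), .old (.least 2), .two 17 1 283 1, .old (.sylow 401 1 12 2 2 3 1), .two 4813 1 2 0, .old (.least 2), .old (.least 3), .old (.sylow 43 1 112 2 4 7 1), .two 4817 1 2 0, .old (.least 2), .two 61 1 79 1, .old (.least 2), .two 3 1 1607 1, .two 2 1 2411 1, .old (.least 7), .old (.sylow 67 1 72 2 3 3 2), .two 5 2 193 1, .old (.least 2), .two 3 1 1609 1, .old (.least 2), .two 11 1 439 1, .old (.least 2), .two 4831 1 2 0, .two 2 5 151 1, .two 3 3 179 1, .two 2 1 2417 1, .two 5 1 967 1, .old (.sylow 13 1 372 2 0 2 0), .two 7 1 691 1, .old (.least 2), .two 3 1 1613 1, .old (.sylow 5 1 968 2 3 11 2), .two 47 1 103 1, .old (.least 2), .two 29 1 167 1, .old (.least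 2), .old (.least 3), .two 2 1 2423 1, .two 37 1 131 1, .old (.sylow 101 1 48 2 4 3 1), .two 13 1 373 1, .old (.least 2), .old (.least 3), .two 2 2 1213 1, .two 23 1 211 1, .old (.least 2), .two 5 1 971 1, .two 2 3 607 1, .two 3 1 1619 1, .old (.least 2), .two 43 1 113 1, .old (.sylow 3 5 20 2 2 5 1), .two 4861 1 2 0, .old (.least 2), .two 3 1 1621 1, .two 2 8 19 1]

theorem band16_ok : checkBandFrom 4793 band16 = true := by decide +kernel

theorem band16_length : band16.length = 72 := rfl

/-- Certificates from 4865 on. -/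
def band17 : List Cert := [.old (.least 5), .old (.least 2), .two 31 1 157 1, .two 2 2 1217 1, .two 3 2 541 1, .old (.least 2), .two 4871 1 2 0, .old (.sylow 29 1 168 2 0 2 0), .two 11 1 443 1, .two 2 1 2437 1, .old (.least 3), .old (.least 2), .two 4877 1 2 0, .old (.least 2), .old (.least 7), .old (.sylow 5 1 976 2 4 61 1), .two 3 1 1627 1, .two 2 1 2441 1, .two 19 1 257 1, .old (.sylow 37 1 132 2 0 2 0), .two 5 1 977 1, .old (.least 2), .two 3 3 181 1, .old (.sylow 13 1 376 2 3 47 1), .two 4889 1 2 0, .old (.least 2), .two 67 1 73 1, .two 2 2 1223 1, .old (.least 3), .two 2 1 2447 1, .old (.least 5), .old (.sylow 17 1 288 2 5 3 2), .two 59 1 83 1, .old (.least 2), .old (.least 3), .old (.least 2), .two 13 2 29 1, .old (.least 2), .two 4903 1 2 0, .two 2 3 613 1, .old (.least 3), .old (.least 2), .two 7 1 701 1, .old (.sylow 3 1 1636 2 2 409 1), .two 4909 1 2 0, .old (.least 2), .two 3 1 1637 1, .two 2 4 307 1, .two 17 3 2 0, .old (.least 2), .two 5 1 983 1, .two 2 2 1229 1, .old (.least 3), .two 2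 1 2459 1, .two 4919 1 2 0, .old (.sylow 41 1 120 2 0 2 0), .old (.least 7), .old (.least 2), .two 3 2 547 1, .two 2 2 1231 1, .two 5 2 197 1, .old (.least 2), .two 13 1 379 1, .old (.sylow 7 1 704 2 6 11 1), .old (.least 3), .old (.least 2), .two 4931 1 2 0, .old (.sylow 137 1 36 2 2 3 2), .two 4933 1 2 0, .two 2 1 2467 1, .old (.least 3), .two 2 3 617 1]

theorem band17_ok : checkBandFrom 4865 band17 = true := by decide +kernel

theorem band17_length : band17.length = 72 := rfl

/-- Certificates from 4937 on. -/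
def band18 : List Cert := [.two 4937 1 2 0, .old (.least 2), .two 11 1 449 1, .old (.least 2), .two 3 4 61 1, .old (.least 2), .two 4943 1 2 0, .old (.sylow 3 1 1648 2 4 103 1), .old (.least 5), .two 2 1 2473 1, .old (.least 3), .two 2 2 1237 1, .two 7 2 101 1, .old (.least 2), .two 4951 1 2 0, .two 2 3 619 1, .old (.least 3), .two 2 1 2477 1, .two 5 1 991 1, .old (.sylow 7 1 708 2 0 2 0), .two 4957 1 2 0, .old (.least 2), .old (.least 3), .old (.sylow 31 1 160 2 5 5 1), .two 11 2 41 1, .old (.least 2), .two 7 1 709 1, .old (.least 2), .old (.least 3), .old (.least 2), .two 4967 1 2 0, .old (.sylow 23 1 216 2 3 3 3), .two 4969 1 2 0, .old (.least 2), .two 3 1 1657 1, .old (.least 2), .two 4973 1 2 0, .old (.least 2), .two 5 2 199 1, .two 2 4 311 1, .old (.least 3), .old (.least 2), .two 13 1 383 1, .old (.sylow 83 1 60 2 0 2 0), .two 17 1 293 1, .old (.least 2), .old (.least 3), .old (.sylow 7 1 712 2 3 89 1), .two 5 1 997 1, .old (.least 2), .two 4987 1 2 0, .old (.least 2), .two 3 1 1663 1, .old (.least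 2), .old (.least 7), .old (.sylow 13 1 384 2 7 3 1), .two 4993 1 2 0, .old (.least 2), .old (.sylow 5 1 999 3 3 37 1), .two 2 2 1249 1, .two 19 1 263 1, .old (.least 2), .two 4999 1 2 0, .two 2 3 5 4, .two 3 1 1667 1, .old (.least 2), .two 5003 1 2 0, .old (.sylow 139 1 36 2 2 3 2), .old (.least 5), .two 2 1 2503 1, .two 3 1 1669 1, .two 2 4 313 1]

theorem band18_ok : checkBandFrom 4937 band18 = true := by decide +kernel

theorem band18_length : band18.length = 72 := rfl

/-- Certificates from 5009 on. -/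
def band19 : List Cert := [.two 5009 1 2 0, .old (.least 2), .two 5011 1 2 0, .old (.least 2), .two 3 2 557 1, .old (.least 2), .old (.least 5), .old (.sylow 11 1 456 2 0 2 0), .two 29 1 173 1, .old (.least 2), .old (.least 3), .old (.least 2), .two 5021 1 2 0, .old (.least 2), .two 5023 1 2 0, .two 2 5 157 1, .old (.least 3), .old (.least 2), .two 11 1 457 1, .old (.sylow 419 1 12 2 2 3 1), .two 47 1 107 1, .old (.least 2), .old (.least 3), .old (.sylow 17 1 296 2 3 37 1), .two 7 1 719 1, .old (.least 2), .old (.least 5), .two 2 2 1259 1, .old (.least 3), .old (.least 2), .two 5039 1 2 0, .skip, .two 71 2 2 0, .two 2 1 2521 1, .two 3 1 41 2, .old (.least 2), .two 5 1 1009 1, .old (.least 2), .two 7 2 103 1, .two 2 3 631 1, .old (.sylow 11 1 459 3 3 17 1), .old (.least 2), .two 5051 1 2 0, .old (.sylow 3 1 1684 2 2 421 1), .two 31 1 163 1, .old (.least 2), .old (.least 3), .two 2 6 79 1, .two 13 1 389 1, .old (.least 2), .two 5059 1 2 0, .old (.least 2), .old (.least 3), .two 2 1 2531 1, .two 61 1 83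 1, .old (.sylow 211 1 24 2 3 3 1), .two 5 1 1013 1, .old (.least 2), .two 3 2 563 1, .old (.least 2), .two 37 1 137 1, .old (.least 2), .two 11 1 461 1, .two 2 4 317 1, .old (.least 3), .old (.least 2), .old (.least 5), .old (.sylow 47 1 108 2 2 3 3), .two 5077 1 2 0, .two 2 1 2539 1, .two 3 1 1693 1, .old (.sylow 5 1 1016 2 3 127 1)]

theorem band19_ok : checkBandFrom 5009 band19 = true := by decide +kernel

theorem band19_length : band19.length = 72 := rfl

/-- Certificates from 5081 on. -/
def band20 : List Cert := [.two 5081 1 2 0, .old (.least 2), .old (.least 13), .old (.least 2), .old (.least 3), .two 2 1 2543 1, .two 5087 1 2 0, .old (.sylow 3 1 1696 2 5 53 1), .two 7 1 727 1, .old (.least 2), .two 3 1 1697 1, .old (.least 2), .two 11 1 463 1, .old (.least 2), .two 5 1 1019 1, .old (.sylow 7 2 104 2 3 13 1), .two 3 1 1699 1, .two 2 1 2549 1, .two 5099 1 2 0, .old (.sylow 17 1 300 2 0 2 0), .two 5101 1 2 0, .two 2 1 2551 1, .two 3 6 7 1, .skip, .two 5 1 1021 1, .old (.least 2), .two 5107 1 2 0,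 .two 2 2 1277 1, .old (.least 3), .old (.least 2), .two 19 1 269 1, .old (.sylow 71 1 72 2 3 3 2), .two 5113 1 2 0, .two 2 1 2557 1, .old (.least 3), .two 2 2 1279 1, .old (.least 7), .old (.least 2), .two 5119 1 2 0, .two 2 10 5 1, .two 3 2 569 1, .old (.least 2), .two 47 1 109 1, .old (.sylow 61 1 84 2 0 2 0), .two 5 3 41 1, .old (.least 2), .two 3 1 1709 1, .two 2 3 641 1, .two 23 1 223 1, .old (.least 2), .two 7 1 733 1, .two 2 2 1283 1, .old (.least 3), .old (.least 2), .old (.least 5), .old (.sylow 107 1 48 2 4 3 1), .two 11 1 467 1, .old (.least 2), .two 3 2 571 1, .old (.least 2), .two 53 1 97 1, .old (.least 2), .two 37 1 139 1, .two 2 3 643 1, .old (.least 3), .old (.least 2), .two 5147 1 2 0, .skip, .two 19 1 271 1, .old (.least 2), .old (.least 3), .old (.sylow 7 1 736 2 5 23 1)]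

theorem band20_ok : checkBandFrom 5081 band20 = true := by decide +kernel

theorem band20_length : band20.length = 72 := rfl

/-- Certificates from 5153 on. -/
def band21 : List Cert := [.two 5153 1 2 0, .old (.least 2), .two 5 1 1031 1, .two 2 2 1289 1, .two 3 3 191 1, .two 2 1 2579 1, .old (.least 7), .old (.sylow 43 1 120 2 0 2 0), .two 13 1 397 1, .old (.least 2), .two 3 1 1721 1, .two 2 2 1291 1, .two 5 1 1033 1, .old (.least 2), .two 5167 1 2 0, .old (.sylow 17 1 304 2 4 19 1), .two 3 1 1723 1, .old (.least 2), .two 5171 1 2 0, .old (.sylow 431 1 12 2 2 3 1), .two 7 1 739 1, .old (.least 2), .old (.least 3), .two 2 3 647 1, .two 31 1 167 1, .old (.least 2), .two 5179 1 2 0, .old (.least 2), .old (.least 3), .two 2 1 2591 1, .two 71 1 73 1, .two 2 6 3 4, .old (.least 5), .two 2 1 2593 1, .old (.least 3), .two 2 2 1297 1, .two 5189 1 2 0, .old (.least 2), .two 29 1 179 1, .old (.sylow 11 1 472 2 3 59 1), .two 3 2 577 1, .old (.least 2), .two 5 1 1039 1, .old (.sylow 3 1 1732 2 2 433 1), .two 5197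 1 2 0, .old (.least 2), .two 3 1 1733 1, .old (.sylow 13 1 400 2 4 5 2), .two 7 1 743 1, .old (.least 2), .two 11 2 43 1, .two 2 2 1301 1, .old (.least 3), .old (.least 2), .two 41 1 127 1, .old (.sylow 31 1 168 2 0 2 0), .two 5209 1 2 0, .old (.least 2), .two 3 3 193 1, .two 2 2 1303 1, .two 13 1 401 1, .old (.least 2), .old (.least 5), .two 2 5 163 1, .old (.least 3), .two 2 1 2609 1, .two 17 1 307 1, .old (.sylow 29 1 180 2 0 2 0), .two 23 1 227 1, .old (.least 2), .two 3 1 1741 1, .two 2 3 653 1]

theorem band21_ok : checkBandFrom 5153 band21 = true := by decide +kernel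

theorem band21_length : band21.length = 72 := rfl

/-- Certificates from 5225 on. -/
def band22 : List Cert := [.old (.least 5), .old (.least 2), .two 5227 1 2 0, .two 2 2 1307 1, .old (.least 3), .old (.least 2), .two 5231 1 2 0, .old (.sylow 3 1 1744 2 4 109 1), .two 5233 1 2 0, .two 2 1 2617 1, .old (.least 3), .old (.least 2), .two 5237 1 2 0, .old (.least 2), .two 13 2 31 1, .old (.sylow 5 1 1048 2 3 131 1), .two 3 1 1747 1, .two 2 1 2621 1, .two 7 2 107 1, .old (.sylow 19 1 276 2 0 2 0), .two 5 1 1049 1, .old (.least 2), .old (.least 3), .two 2 7 41 1, .two 29 1 181 1, .old (.least 2), .two 59 1 89 1, .old (.least 2), .old (.least 3), .old (.least 2), .two 5 1 1051 1, .old (.sylow 73 1 72 2 3 3 2), .two 7 1 751 1, .old (.least 2), .two 3 1 1753 1, .old (.least 2), .two 5261 1 2 0, .old (.least 2), .two 19 1 277 1, .old (.sylow 7 1 752 2 4 47 1), .old (.sylow 5 1 1053 3 4 13 1), .two 2 1 2633 1, .two 23 1 229 1, .old (.sylow 3 1 1756 2 2 439 1), .two 11 1 479 1, .old (.least 2), .old (.least 3),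 .two 2 3 659 1, .two 5273 1 2 0, .old (.least 2), .two 5 2 211 1, .two 2 2 1319 1, .two 3 1 1759 1, .old (.least 2), .two 5279 1 2 0, .old (.sylow 11 1 480 2 0 2 0), .two 5281 1 2 0, .old (.least 2), .two 3 2 587 1, .two 2 2 1321 1, .old (.least 5), .old (.least 2), .two 17 1 311 1, .two 2 3 661 1, .old (.least 3), .old (.least 2), .old (.least 11), .skip, .two 67 1 79 1, .two 2 1 2647 1, .old (.least 3), .two 2 4 331 1]

theorem band22_ok : checkBandFrom 5225 band22 = true := by decide +kernel

theorem band22_length : band22.length = 72 := rfl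

/-- Certificates from 5297 on. -/
def band23 : List Cert := [.two 5297 1 2 0, .old (.least 2), .two 7 1 757 1, .old (.least 2), .old (.least 3), .old (.least 2), .two 5303 1 2 0, .old (.sylow 13 1 408 2 0 2 0), .two 5 1 1061 1, .old (.least 2), .old (.least 3), .two 2 2 1327 1, .two 5309 1 2 0, .old (.least 2), .two 47 1 113 1, .two 2 6 83 1, .old (.least 3), .two 2 1 2657 1, .two 5 1 1063 1, .old (.sylow 443 1 12 2 2 3 1), .two 13 1 409 1, .two 2 1 2659 1, .two 3 3 197 1, .old (.sylow 19 1 280 2 0 2 0), .two 17 1 313 1, .old (.least 2), .two 5323 1 2 0, .two 2 2 11 3, .old (.least 3), .two 2 1 2663 1, .two 7 1 761 1, .old (.sylow 37 1 144 2 4 3 2), .two 73 2 2 0, .old (.least 2), .two 3 1 1777 1, .old (.least 2), .two 5333 1 2 0, .old (.least 2), .old (.least 5), .old (.sylow 29 1 184 2 3 23 1), .two 3 2 593 1, .old (.least 2), .two 19 1 281 1, .old (.sylow 5 1 1068 2 0 2 0), .two 7 2 109 1, .two 2 1 2671 1, .old (.least 3), .two 2 5 167 1, .two 5 1 1069 1, .old (.least 2), .two 5347 1 2 0, .old (.least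 2), .two 3 1 1783 1, .old (.least 2), .two 5351 1 2 0, .old (.sylow 223 1 24 2 3 3 1), .two 53 1 101 1, .two 2 1 2677 1, .old (.least 3), .old (.least 2), .two 11 1 487 1, .old (.least 2), .two 23 1 233 1, .old (.sylow 67 1 80 2 4 5 1), .two 3 1 1787 1, .old (.least 2), .two 31 1 173 1, .old (.sylow 149 1 36 2 2 3 2), .old (.least 5), .two 2 1 2683 1, .two 3 1 1789 1, .old (.sylow 11 1 488 2 3 61 1)]

theorem band23_ok : checkBandFrom 5297 band23 = true := by decide +kernel

theorem band23_length : band23.length = 72 := rfl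

/-- Certificates from 5369 on. -/
def band24 : List Cert := [.old (.least 7), .old (.least 2), .two 41 1 131 1, .old (.least 2), .two 3 3 199 1, .two 2 1 2687 1, .two 5 3 43 1, .old (.sylow 3 1 1792 2 8 7 1), .two 19 1 283 1, .two 2 1 2689 1, .old (.least 3), .old (.least 2), .two 5381 1 2 0, .old (.least 2), .two 7 1 769 1, .two 2 3 673 1, .old (.least 3), .two 2 1 2693 1, .two 5387 1 2 0, .old (.sylow 449 1 12 2 2 3 1), .two 17 1 317 1, .old (.least 2), .two 3 2 599 1, .two 2 4 337 1, .two 5393 1 2 0, .old (.least 2), .old (.least 5), .old (.least 2), .old (.least 3), .two 2 1 2699 1, .two 5399 1 2 0, .skip, .two 11 1 491 1, .old (.least 2), .two 3 1 1801 1, .old (.least 2), .old (.least 5), .old (.least 2), .two 5407 1 2 0, .two 2 5 13 2, .two 3 2 601 1, .old (.least 2), .two 7 1 773 1, .old (.sylow 11 1 492 2 0 2 0), .two 5413 1 2 0, .two 2 1 2707 1, .old (.least 3), .two 2 3 677 1, .two 5417 1 2 0, .old (.least 2), .two 5419 1 2 0, .old (.least 2), .old (.least 3), .two 2 1 2711 1, .old (.least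 11), .old (.sylow 113 1 48 2 4 3 1), .old (.least 5), .two 2 1 2713 1, .two 3 4 67 1, .old (.least 2), .two 61 1 89 1, .old (.least 2), .two 5431 1 2 0, .old (.sylow 7 1 776 2 3 97 1), .two 3 1 1811 1, .old (.least 2), .two 5 1 1087 1, .old (.sylow 151 1 36 2 2 3 2), .two 5437 1 2 0, .two 2 1 2719 1, .old (.least 3), .old (.sylow 5 1 1088 2 6 17 1)]

theorem band24_ok : checkBandFrom 5369 band24 = true := by decide +kernel

theorem band24_length : band24.length = 72 := rfl

/-- Certificates from 5441 on. -/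
def band25 : List Cert := [.two 5441 1 2 0, .old (.least 2), .two 5443 1 2 0, .two 2 2 1361 1, .old (.least 3), .old (.least 2), .two 13 1 419 1, .old (.sylow 3 1 1816 2 3 227 1), .two 5449 1 2 0, .old (.least 2), .old (.least 3), .old (.least 2), .old (.least 7), .old (.least 2), .two 5 1 1091 1, .old (.sylow 11 1 496 2 4 31 1), .old (.least 3), .two 2 1 2729 1, .two 53 1 103 1, .skip, .two 43 1 127 1, .two 2 1 2731 1, .two 3 2 607 1, .two 2 3 683 1, .two 5 1 1093 1, .old (.least 2), .old (.least 7), .two 2 2 1367 1, .two 3 1 1823 1, .old (.least 2), .two 5471 1 2 0, .skip, .two 13 1 421 1, .old (.least 2), .old (.least 3), .two 2 2 37 2, .two 5477 1 2 0, .old (.least 2), .two 5479 1 2 0, .old (.sylow 5 1 1096 2 3 137 1), .old (.sylow 3 3 203 7 1 29 1), .two 2 1 2741 1, .two 5483 1 2 0, .old (.sylow 3 1 1828 2 2 457 1), .two 5 1 1097 1, .old (.least 2), .old (.least 3), .two 2 4 7 3, .two 11 1 499 1, .old (.least 2), .two 17 2 19 1, .two 2 2 1373 1, .two 3 1 1831 1, .old (.least 2), .old (.least 5),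 .old (.sylow 229 1 24 2 3 3 1), .two 23 1 239 1, .two 2 1 2749 1, .old (.least 3), .old (.least 2), .two 5501 1 2 0, .old (.least 2), .two 5503 1 2 0, .two 2 7 43 1, .old (.least 3), .two 2 1 2753 1, .two 5507 1 2 0, .old (.sylow 17 1 324 2 2 3 4), .two 7 1 787 1, .old (.least 2), .old (.least 3), .old (.sylow 13 1 424 2 3 53 1)]

theorem band25_ok : checkBandFrom 5441 band25 = true := by decide +kernel

theorem band25_length : band25.length = 72 := rfl

/-- Certificates from 5513 on. -/
def band26 : List Cert := [.two 37 1 149 1, .old (.least 2), .two 5 1 1103 1, .old (.least 2), .two 3 2 613 1, .old (.least 2), .two 5519 1 2 0, .old (.sylow 23 1 240 2 0 2 0), .two 5521 1 2 0, .old (.least 2), .old (.least 3), .two 2 2 1381 1, .old (.least 5), .old (.least 2), .two 5527 1 2 0, .two 2 3 691 1, .old (.least 3), .old (.least 2), .two 5531 1 2 0, .old (.sylow 461 1 12 2 2 3 1), .two 11 1 503 1, .two 2 1 2767 1, .old (.sylow 5 1 1107 3 3 41 1), .two 2 5 173 1, .two 7 2 113 1, .old (.least 2), .two 29 1 191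 1, .old (.least 2), .two 3 1 1847 1, .old (.least 2), .two 23 1 241 1, .old (.sylow 11 1 504 2 0 2 0), .two 5 1 1109 1, .old (.least 2), .two 3 1 43 2, .old (.least 2), .two 31 1 179 1, .old (.least 2), .old (.least 7), .two 2 4 347 1, .two 3 2 617 1, .two 2 1 2777 1, .old (.least 5), .old (.sylow 3 1 1852 2 2 463 1), .two 5557 1 2 0, .old (.least 2), .old (.least 3), .old (.sylow 139 1 40 2 3 5 1), .two 67 1 83 1, .old (.least 2), .two 5563 1 2 0, .old (.least 2), .old (.least 3), .old (.least 2), .two 19 1 293 1, .old (.sylow 29 1 192 2 6 3 1), .two 5569 1 2 0, .old (.least 2), .two 3 2 619 1, .old (.least 2), .two 5573 1 2 0, .old (.least 2), .two 5 2 223 1, .old (.sylow 17 1 328 2 3 41 1), .old (.least 3), .two 2 1 2789 1, .two 7 1 797 1, .old (.sylow 31 1 180 2 0 2 0), .two 5581 1 2 0, .two 2 1 2791 1, .two 3 1 1861 1, .two 2 4 349 1]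

theorem band26_ok : checkBandFrom 5513 band26 = true := by decide +kernel

theorem band26_length : band26.length = 72 := rfl

/-- Certificates from 5585 on. -/
def band27 : List Cert := [.two 5 1 1117 1, .old (.least 2), .two 37 1 151 1, .old (.least 2), .two 3 5 23 1, .old (.least 2), .two 5591 1 2 0, .old (.sylow 3 1 1864 2 3 233 1), .old (.least 7), .two 2 1 2797 1, .old (.least 3), .two 2 2 1399 1, .two 29 1 193 1, .old (.least 2), .two 11 1 509 1, .skip, .two 3 1 1867 1, .two 2 1 2801 1, .two 13 1 431 1, .old (.sylow 467 1 12 2 2 3 1), .old (.least 5), .two 2 1 2803 1, .old (.least 3), .two 2 3 701 1, .two 71 1 79 1, .old (.least 2), .two 31 1 181 1, .old (.least 2), .two 3 1 1871 1, .old (.least 2), .two 5 1 1123 1, .skip, .two 41 1 137 1, .two 2 1 53 2, .two 3 1 1873 1, .old (.least 2), .old (.least 7), .old (.least 2), .two 5623 1 2 0, .old (.sylow 19 1 296 2 3 37 1), .two 3 2 5 4, .old (.least 2), .two 17 1 331 1, .old (.sylow 67 1 84 2 0 2 0), .two 13 1 433 1, .old (.least 2), .two 3 1 1877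 1, .two 2 9 11 1, .two 43 1 131 1, .old (.least 2), .old (.least 5), .two 2 2 1409 1, .two 3 1 1879 1, .two 2 1 2819 1, .two 5639 1 2 0, .old (.sylow 47 1 120 2 0 2 0), .two 5641 1 2 0, .old (.least 2), .old (.sylow 11 1 513 3 3 19 1), .old (.least 2), .two 5 1 1129 1, .old (.least 2), .two 5647 1 2 0, .two 2 4 353 1, .old (.least 3), .old (.least 2), .two 5651 1 2 0, .old (.sylow 157 1 36 2 2 3 2), .two 5653 1 2 0, .old (.least 2), .old (.least 3), .old (.sylow 7 1 808 2 3 101 1)]

theorem band27_ok : checkBandFrom 5585 band27 = true := by decide +kernel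

theorem band27_length : band27.length = 72 := rfl

/-- Certificates from 5657 on. -/
def band28 : List Cert := [.two 5657 1 2 0, .old (.least 2), .two 5659 1 2 0, .old (.least 2), .old (.least 3), .old (.least 2), .two 7 1 809 1, .old (.sylow 3 1 1888 2 5 59 1), .old (.least 5), .two 2 1 2833 1, .two 3 1 1889 1, .old (.least 2), .two 5669 1 2 0, .old (.least 2), .two 53 1 107 1, .two 2 3 709 1, .old (.least 3), .two 2 1 2837 1, .two 5 2 227 1, .old (.sylow 11 1 516 2 0 2 0), .two 7 1 811 1, .old (.least 2), .two 3 2 631 1, .old (.sylow 5 1 1136 2 4 71 1), .old (.least 13), .old (.least 2), .two 5683 1 2 0, .old (.least 2), .old (.least 3), .two 2 1 2843 1, .two 11 2 47 1, .old (.sylow 79 1 72 2 3 3 2), .two 5689 1 2 0, .old (.least 2), .old (.least 3), .two 2 2 1423 1, .two 5693 1 2 0, .old (.least 2), .old (.least 5), .two 2 6 89 1, .two 3 3 211 1, .old (.least 2), .two 41 1 139 1, .old (.sylow 19 1 300 2 0 2 0), .two 5701 1 2 0, .two 2 1 2851 1, .two 3 1 1901 1, .old (.sylow 23 1 248 2 3 31 1), .old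 (.least 5), .old (.least 2), .two 13 1 439 1, .two 2 2 1427 1, .old (.least 3), .old (.least 2), .two 5711 1 2 0, .old (.sylow 17 1 336 2 0 2 0), .two 29 1 197 1, .two 2 1 2857 1, .old (.least 3), .two 2 2 1429 1, .two 5717 1 2 0, .old (.least 2), .old (.least 7), .old (.sylow 11 1 520 2 0 2 0), .two 3 1 1907 1, .two 2 1 2861 1, .two 59 1 97 1, .old (.sylow 53 1 108 2 2 3 3), .two 5 2 229 1, .old (.least 2), .old (.least 3), .two 2 5 179 1]

theorem band28_ok : checkBandFrom 5657 band28 = true := by decide +kernel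

theorem band28_length : band28.length = 72 := rfl

/-- Certificates from 5729 on. -/
def band29 : List Cert := [.two 17 1 337 1, .old (.least 2), .two 11 1 521 1, .two 2 2 1433 1, .old (.least 3), .old (.least 2), .old (.least 5), .old (.sylow 3 1 1912 2 3 239 1), .two 5737 1 2 0, .old (.least 2), .two 3 1 1913 1, .old (.least 2), .two 5741 1 2 0, .old (.least 2), .two 5743 1 2 0, .two 2 4 359 1, .old (.least 3), .old (.least 2), .two 7 1 821 1, .old (.sylow 479 1 12 2 2 3 1), .two 5749 1 2 0, .old (.least 2), .two 3 4 71 1, .two 2 3 719 1, .two 11 1 523 1, .old (.least 2), .two 5 1 1151 1, .two 2 2 1439 1, .old (.least 3), .two 2 1 2879 1, .two 13 1 443 1, .skip, .two 7 1 823 1, .old (.least 2), .old (.least 3), .old (.least 2), .two 5 1 1153 1, .old (.least 2), .two 73 1 79 1, .old (.sylow 7 1 824 2 3 103 1), .two 3 2 641 1, .old (.least 2), .two 29 1 199 1, .old (.sylow 37 1 156 2 0 2 0), .two 23 1 251 1, .two 2 1 2887 1, .old (.least 3), .two 2 4 19 2, .two 53 1 109 1, .old (.least 2), .two 5779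 1 2 0, .old (.least 2), .old (.least 3), .old (.least 2), .two 5783 1 2 0, .old (.sylow 241 1 24 2 3 3 1), .old (.least 5), .old (.least 2), .two 3 2 643 1, .two 2 2 1447 1, .two 7 1 827 1, .old (.least 2), .two 5791 1 2 0, .two 2 5 181 1, .two 3 1 1931 1, .two 2 1 2897 1, .old (.least 5), .old (.sylow 23 1 252 2 0 2 0), .old (.least 11), .old (.least 2), .two 3 1 1933 1, .old (.sylow 29 1 200 2 3 5 2)]

theorem band29_ok : checkBandFrom 5729 band29 = true := by decide +kernel

theorem band29_length : band29.length = 72 := rfl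

/-- Certificates from 5801 on. -/
def band30 : List Cert := [.two 5801 1 2 0, .old (.least 2), .two 7 1 829 1, .two 2 2 1451 1, .old (.sylow 5 1 1161 3 3 43 1), .two 2 1 2903 1, .two 5807 1 2 0, .old (.sylow 3 1 1936 2 4 11 2), .two 37 1 157 1, .old (.least 2), .old (.least 3), .two 2 2 1453 1, .two 5813 1 2 0, .old (.least 2), .two 5 1 1163 1, .two 2 3 727 1, .old (.least 3), .two 2 1 2909 1, .two 11 1 23 2, .old (.sylow 97 1 60 2 0 2 0), .two 5821 1 2 0, .old (.least 2), .two 3 2 647 1, .old (.sylow 7 1 832 2 6 13 1), .two 5 2 233 1, .old (.least 2), .two 5827 1 2 0, .old (.least 2), .old (.least 3), .old (.least 2), .two 7 3 17 1, .two 2 3 3 6, .two 19 1 307 1, .two 2 1 2917 1, .old (.least 3), .two 2 2 1459 1, .two 13 1 449 1, .old (.least 2), .two 5839 1 2 0, .old (.sylow 5 1 1168 2 4 73 1), .old (.least 3), .old (.least 2), .two 5843 1 2 0, .old (.sylow 3 1 1948 2 2 487 1), .old (.least 5), .old (.least 2), .two 3 1 1949 1, .old (.sylow 43 1 136 2 3 17 1), .two 5849 1 2 0, .old (.least 2), .two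 5851 1 2 0, .old (.least 2), .two 3 1 1951 1, .two 2 1 2927 1, .two 5 1 1171 1, .old (.sylow 61 1 96 2 5 3 1), .two 5857 1 2 0, .old (.least 2), .old (.sylow 7 1 837 3 3 31 1), .old (.least 2), .two 5861 1 2 0, .old (.least 2), .old (.least 11), .two 2 3 733 1, .old (.least 3), .old (.least 2), .two 5867 1 2 0, .old (.sylow 163 1 36 2 2 3 2), .two 5869 1 2 0, .old (.least 2), .old (.least 3), .two 2 4 367 1]

theorem band30_ok : checkBandFrom 5801 band30 = true := by decide +kernel

theorem band30_length : band30.length = 72 := rfl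

/-- Certificates from 5873 on. -/
def band31 : List Cert := [.two 7 1 839 1, .old (.least 2), .two 5 3 47 1, .old (.least 2), .two 3 2 653 1, .two 2 1 2939 1, .two 5879 1 2 0, .skip, .two 5881 1 2 0, .old (.least 2), .old (.least 3), .two 2 2 1471 1, .old (.least 5), .old (.least 2), .two 7 1 29 2, .two 2 8 23 1, .old (.least 3), .old (.least 2), .two 43 1 137 1, .old (.sylow 491 1 12 2 2 3 1), .two 71 1 83 1, .old (.least 2), .old (.least 3), .old (.sylow 11 1 536 2 3 67 1), .two 5897 1 2 0, .old (.least 2), .two 17 1 347 1, .old (.least 2), .old (.least 3), .old (.least 2), .two 5903 1 2 0, .old (.sylow 41 1 144 2 4 3 2), .two 5 1 1181 1, .two 2 1 2953 1, .old (.least 3), .old (.least 2), .two 19 1 311 1, .old (.least 2), .two 23 1 257 1, .two 2 3 739 1, .two 3 4 73 1, .two 2 1 2957 1, .old (.least 5), .old (.sylow 17 1 348 2 0 2 0), .two 61 1 97 1, .old (.least 2), .two 3 1 1973 1, .old (.sylow 37 1 160 2 5 5 1), .two 31 1 191 1, .old (.least 2), .two 5923 1 2 0, .two 2 2 1481 1, .old (.least 3),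 .two 2 1 2963 1, .two 5927 1 2 0, .old (.sylow 13 1 456 2 0 2 0), .two 7 2 11 2, .old (.least 2), .two 3 2 659 1, .two 2 2 1483 1, .two 17 1 349 1, .old (.least 2), .two 5 1 1187 1, .old (.sylow 7 1 848 2 4 53 1), .two 3 1 1979 1, .two 2 1 2969 1, .two 5939 1 2 0, .skip, .two 13 1 457 1, .two 2 1 2971 1, .old (.least 3), .two 2 3 743 1]

theorem band31_ok : checkBandFrom 5873 band31 = true := by decide +kernel

theorem band31_length : band31.length = 72 := rfl

/-- Certificates from 5945 on. -/
def band32 : List Cert := [.old (.least 5), .old (.least 2), .two 19 1 313 1, .two 2 2 1487 1, .two 3 2 661 1, .old (.least 2), .two 11 1 541 1, .old (.sylow 3 1 1984 2 6 31 1), .two 5953 1 2 0, .old (.least 2), .old (.least 3), .two 2 2 1489 1, .old (.least 7), .old (.least 2), .two 59 1 101 1, .old (.sylow 149 1 40 2 3 5 1), .two 3 1 1987 1, .old (.least 2), .two 67 1 89 1, .old (.sylow 71 1 84 2 0 2 0), .two 5 1 1193 1, .old (.least 2), .old (.sylow 13 1 459 3 3 17 1), .two 2 4 373 1, .two 47 1 127 1, .old (.least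 2), .two 7 1 853 1, .two 2 2 1493 1, .old (.least 3), .old (.least 2), .two 5 2 239 1, .old (.sylow 83 1 72 2 3 3 2), .two 43 1 139 1, .old (.least 2), .two 3 1 1993 1, .old (.least 2), .two 5981 1 2 0, .old (.least 2), .two 31 1 193 1, .old (.sylow 11 1 544 2 5 17 1), .old (.least 3), .old (.least 2), .two 5987 1 2 0, .old (.sylow 3 1 1996 2 2 499 1), .two 53 1 113 1, .old (.least 2), .two 3 1 1997 1, .old (.sylow 107 1 56 2 3 7 1), .two 13 1 461 1, .old (.least 2), .old (.least 5), .two 2 2 1499 1, .two 3 1 1999 1, .two 2 1 2999 1, .two 7 1 857 1, .skip, .two 17 1 353 1, .two 2 1 3001 1, .old (.least 3), .old (.least 2), .two 5 1 1201 1, .old (.least 2), .two 6007 1 2 0, .two 2 3 751 1, .two 3 1 2003 1, .old (.least 2), .two 6011 1 2 0, .old (.sylow 167 1 36 2 2 3 2), .two 7 1 859 1, .old (.least 2), .old (.least 3), .two 2 7 47 1]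

theorem band32_ok : checkBandFrom 5945 band32 = true := by decide +kernel

theorem band32_length : band32.length = 72 := rfl

/-- Certificates from 6017 on. -/
def band33 : List Cert := [.two 11 1 547 1, .old (.least 2), .two 13 1 463 1, .old (.least 2), .two 3 3 223 1, .two 2 1 3011 1, .two 19 1 317 1, .old (.sylow 3 1 2008 2 3 251 1), .two 5 2 241 1, .old (.least 2), .old (.least 3), .old (.least 2), .two 6029 1 2 0, .old (.least 2), .two 37 1 163 1, .old (.sylow 13 1 464 2 4 29 1), .two 3 1 2011 1, .old (.least 2), .old (.least 5), .old (.sylow 503 1 12 2 2 3 1), .two 6037 1 2 0, .two 2 1 3019 1, .old (.least 3), .old (.sylow 5 1 1208 2 3 151 1), .two 7 1 863 1, .old (.least 2), .two 6043 1 2 0, .two 2 2 1511 1, .old (.least 3), .two 2 1 3023 1, .two 6047 1 2 0, .skip, .two 23 1 263 1, .old (.least 2), .two 3 1 2017 1, .old (.least 2), .two 6053 1 2 0, .old (.least 2), .old (.least 5), .two 2 3 757 1, .two 3 2 673 1, .old (.least 2), .two 73 1 83 1, .old (.sylow 101 1 60 2 0 2 0), .old (.least 11),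 .old (.least 2), .old (.least 3), .two 2 4 379 1, .two 5 1 1213 1, .old (.least 2), .two 6067 1 2 0, .old (.least 2), .old (.least 3), .old (.least 2), .two 13 1 467 1, .skip, .two 6073 1 2 0, .two 2 1 3037 1, .two 3 5 5 2, .old (.least 2), .two 59 1 103 1, .old (.least 2), .two 6079 1 2 0, .old (.sylow 5 1 1216 2 6 19 1), .two 3 1 2027 1, .two 2 1 3041 1, .old (.least 7), .old (.sylow 13 2 36 2 2 3 2), .two 5 1 1217 1, .old (.least 2), .two 3 1 2029 1, .two 2 3 761 1]

theorem band33_ok : checkBandFrom 6017 band33 = true := by decide +kernel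

theorem band33_length : band33.length = 72 := rfl

/-- Certificates from 6089 on. -/
def band34 : List Cert := [.two 6089 1 2 0, .old (.least 2), .two 6091 1 2 0, .two 2 2 1523 1, .two 3 2 677 1, .old (.least 2), .old (.least 5), .old (.sylow 3 1 2032 2 4 127 1), .old (.least 7), .two 2 1 3049 1, .old (.least 3), .old (.least 2), .two 6101 1 2 0, .old (.least 2), .two 17 1 359 1, .old (.sylow 7 1 872 2 3 109 1), .old (.least 3), .old (.least 2), .two 31 1 197 1, .old (.sylow 509 1 12 2 2 3 1), .two 41 1 149 1, .old (.least 2), .old (.least 3), .two 2 5 191 1, .two 6113 1 2 0, .old (.least 2), .two 5 1 1223 1, .old (.least 2), .two 3 1 2039 1, .old (.least 2), .two 29 1 211 1, .old (.sylow 17 1 360 2 0 2 0), .two 6121 1 2 0, .two 2 1 3061 1, .old (.least 3), .two 2 2 1531 1, .two 5 3 7 2, .old (.least 2), .two 11 1 557 1, .two 2 4 383 1, .two 3 3 227 1, .old (.least 2), .two 6131 1 2 0, .old (.sylow 7 1 876 2 0 2 0), .two 6133 1 2 0, .two 2 1 3067 1, .old (.least 3), .old (.sylow 59 1 104 2 3 13 1), .two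 17 1 19 2, .old (.least 2), .two 7 1 877 1, .old (.least 2), .old (.least 3), .old (.least 2), .two 6143 1 2 0, .two 2 11 3 1, .two 5 1 1229 1, .old (.least 2), .two 3 2 683 1, .old (.least 2), .old (.least 11), .old (.least 2), .two 6151 1 2 0, .two 2 3 769 1, .old (.least 3), .old (.least 2), .two 5 1 1231 1, .old (.sylow 19 1 324 2 2 3 4), .two 47 1 131 1, .two 2 1 3079 1, .two 3 1 2053 1, .skip]

theorem band34_ok : checkBandFrom 6089 band34 = true := by decide +kernel

theorem band34_length : band34.length = 72 := rfl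

/-- Certificates from 6161 on. -/
def band35 : List Cert := [.two 61 1 101 1, .old (.least 2), .two 6163 1 2 0, .old (.least 2), .old (.least 3), .two 2 1 3083 1, .two 7 1 881 1, .old (.sylow 3 1 2056 2 3 257 1), .two 31 1 199 1, .old (.least 2), .old (.least 3), .two 2 2 1543 1, .two 6173 1 2 0, .old (.least 2), .old (.least 5), .two 2 5 193 1, .old (.least 3), .two 2 1 3089 1, .two 37 1 167 1, .old (.sylow 103 1 60 2 0 2 0), .two 7 1 883 1, .old (.least 2), .two 3 3 229 1, .two 2 3 773 1, .two 5 1 1237 1, .old (.least 2), .two 23 1 269 1, .old (.least 2), .two 3 1 2063 1, .old (.least 2), .two 41 1 151 1, .old (.sylow 43 1 144 2 4 3 2), .two 11 1 563 1, .old (.least 2), .old (.least 3), .two 2 2 1549 1, .two 6197 1 2 0, .old (.least 2), .two 6199 1 2 0, .old (.sylow 31 1 200 2 3 5 2), .old (.least 3), .old (.least 2), .two 6203 1 2 0, .old (.sylow 11 1 564 2 0 2 0), .old (.least 5), .old (.least 2), .two 3 1 2069 1, .two 2 6 97 1, .two 7 1 887 1, .old (.least 2), .two 6211 1 2 0, .two 2 2 1553 1, .old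 (.least 3), .old (.least 2), .old (.least 5), .old (.sylow 37 1 168 2 0 2 0), .two 6217 1 2 0, .two 2 1 3109 1, .two 3 2 691 1, .old (.least 2), .two 6221 1 2 0, .old (.least 2), .two 7 2 127 1, .two 2 4 389 1, .old (.least 3), .old (.least 2), .two 13 1 479 1, .old (.sylow 173 1 36 2 2 3 2), .two 6229 1 2 0, .old (.least 2), .old (.least 3), .old (.sylow 19 1 328 2 3 41 1)]

theorem band35_ok : checkBandFrom 6161 band35 = true := by decide +kernel

theorem band35_length : band35.length = 72 := rfl

/-- Every order in the range has a certificate. -/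
theorem exists_cert {n : ℕ} (h1 : 3641 ≤ n) (h2 : n ≤ 6232) : ∃ w, checkBand n w = true := by
  by_cases h0 : n < 3713
  · exact exists_of_checkBandFrom band0_ok (by omega) (by rw [band0_length]; omega)
  by_cases h1 : n < 3785
  · exact exists_of_checkBandFrom band1_ok (by omega) (by rw [band1_length]; omega)
  by_cases h2 : n < 3857
  · exact exists_of_checkBandFrom band2_ok (by omega) (by rw [band2_length]; omega)
  by_cases h3 : n < 3929
  · exact exists_of_checkBandFrom band3_ok (by omega) (by rw [band3_length]; omega)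
  by_cases h4 : n < 4001
  · exact exists_of_checkBandFrom band4_ok (by omega) (by rw [band4_length]; omega)
  by_cases h5 : n < 4073
  · exact exists_of_checkBandFrom band5_ok (by omega) (by rw [band5_length]; omega)
  by_cases h6 : n < 4145
  · exact exists_of_checkBandFrom band6_ok (by omega) (by rw [band6_length]; omega)
  by_cases h7 : n < 4217
  · exact exists_of_checkBandFrom band7_ok (by omega) (by rw [band7_length]; omega)
  by_cases h8 : n < 4289
  · exact exists_of_checkBandFrom band8_ok (by omega) (by rw [band8_length]; omega)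
  by_cases h9 : n < 4361
  · exact exists_of_checkBandFrom band9_ok (by omega) (by rw [band9_length]; omega)
  by_cases h10 : n < 4433
  · exact exists_of_checkBandFrom band10_ok (by omega) (by rw [band10_length]; omega)
  by_cases h11 : n < 4505
  · exact exists_of_checkBandFrom band11_ok (by omega) (by rw [band11_length]; omega)
  by_cases h12 : n < 4577
  · exact exists_of_checkBandFrom band12_ok (by omega) (by rw [band12_length]; omega)
  by_cases h13 : n < 4649
  · exact exists_of_checkBandFrom band13_ok (by omega) (by rw [band13_length]; omega)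
  by_cases h14 : n < 4721
  · exact exists_of_checkBandFrom band14_ok (by omega) (by rw [band14_length]; omega)
  by_cases h15 : n < 4793
  · exact exists_of_checkBandFrom band15_ok (by omega) (by rw [band15_length]; omega)
  by_cases h16 : n < 4865
  · exact exists_of_checkBandFrom band16_ok (by omega) (by rw [band16_length]; omega)
  by_cases h17 : n < 4937
  · exact exists_of_checkBandFrom band17_ok (by omega) (by rw [band17_length]; omega)
  by_cases h18 : n < 5009
  · exact exists_of_checkBandFrom band18_ok (by omega) (by rw [band18_length]; omega)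
  by_cases h19 : n < 5081
  · exact exists_of_checkBandFrom band19_ok (by omega) (by rw [band19_length]; omega)
  by_cases h20 : n < 5153
  · exact exists_of_checkBandFrom band20_ok (by omega) (by rw [band20_length]; omega)
  by_cases h21 : n < 5225
  · exact exists_of_checkBandFrom band21_ok (by omega) (by rw [band21_length]; omega)
  by_cases h22 : n < 5297
  · exact exists_of_checkBandFrom band22_ok (by omega) (by rw [band22_length]; omega)
  by_cases h23 : n < 5369
  · exact exists_of_checkBandFrom band23_ok (by omega) (by rw [band23_length]; omega)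
  by_cases h24 : n < 5441
  · exact exists_of_checkBandFrom band24_ok (by omega) (by rw [band24_length]; omega)
  by_cases h25 : n < 5513
  · exact exists_of_checkBandFrom band25_ok (by omega) (by rw [band25_length]; omega)
  by_cases h26 : n < 5585
  · exact exists_of_checkBandFrom band26_ok (by omega) (by rw [band26_length]; omega)
  by_cases h27 : n < 5657
  · exact exists_of_checkBandFrom band27_ok (by omega) (by rw [band27_length]; omega)
  by_cases h28 : n < 5729
  · exact exists_of_checkBandFrom band28_ok (by omega) (by rw [band28_length]; omega)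
  by_cases h29 : n < 5801
  · exact exists_of_checkBandFrom band29_ok (by omega) (by rw [band29_length]; omega)
  by_cases h30 : n < 5873
  · exact exists_of_checkBandFrom band30_ok (by omega) (by rw [band30_length]; omega)
  by_cases h31 : n < 5945
  · exact exists_of_checkBandFrom band31_ok (by omega) (by rw [band31_length]; omega)
  by_cases h32 : n < 6017
  · exact exists_of_checkBandFrom band32_ok (by omega) (by rw [band32_length]; omega)
  by_cases h33 : n < 6089
  · exact exists_of_checkBandFrom band33_ok (by omega) (by rw [band33_length]; omega)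
  by_cases h34 : n < 6161
  · exact exists_of_checkBandFrom band34_ok (by omega) (by rw [band34_length]; omega)
  by_cases h35 : n < 6233
  · exact exists_of_checkBandFrom band35_ok (by omega) (by rw [band35_length]; omega)
  omega

end CfsgLib.SmallSimple.Band6232
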