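import Cfsg.Agent.Lib.SmallSimple.AtMost1092.Local
import Cfsg.Agent.Lib.SmallGroups.SylowLocal
import Cfsg.Agent.Lib.SmallGroups.SylowFixed
import Cfsg.Agent.Lib.SmallGroups.InvertingInvolution
import Cfsg.Agent.S0996

/-!
Options for the normalizer of a Sylow subgroup of prime order, fixed Sylow subgroups of elements of its
centralizer, and consequences.
-/

set_option autoImplicit false
set_option linter.style.haveILetI false

namespace CfsgLib.SmallSimple.Band6232

open Subgroup CfsgLib SmallGroups AtMost1092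

set_option linter.unusedSectionVars false

variable {G : Type*} [Group G] [Finite G] [IsSimpleGroup G] {p : ℕ} [hp : Fact p.Prime]

/-- The pairs (Sylow number, order of the automizer) that survive. -/
def optsOK (p m : ℕ) (L : List (ℕ × ℕ)) : Bool :=
  (List.range (m / p + 1)).all fun j => decide (j = 0) || decide (m % (1 + j * p) ≠ 0) ||
    ((decide (1 + j * p ≤ 12) && decide ((1 + j * p).factorial % (2 * (p * m)) ≠ 0)) ||
      (decide (j = 1) && decide (2 * (p * m) ≠ p * (p * p - 1)) && decide (p * m ≠ p * ((p - 1) * (p - 2)))) ||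
      (List.range p).all fun r => decide (r < 2) || decide ((p - 1) % r ≠ 0) ||
        decide (m / (1 + j * p) % r ≠ 0) ||
        (decide (2 ≤ j) && decide (j ≤ 12) && decide (p ≠ 2) &&
          decide (j.factorial % (2 * (m / (1 + j * p) / r)) ≠ 0)) ||
        L.contains (1 + j * p, r))

/-- The surviving options occur. -/
theorem options (hG : ¬ IsMulCommutative G) {n m : ℕ} (hnG : Nat.card G = n) (hn : n = p * m)
    (hm : ¬ p ∣ m) (P : Sylow p G) (L : List (ℕ × ℕ)) (h : optsOK p m L = true) :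
    ∃ k r u : ℕ, (k, r) ∈ L ∧ Nat.card (Sylow p G) = k ∧ k * (r * u) = m ∧
      Nat.card (normalizer ((P : Subgroup G) : Set G)) = p * (r * u) ∧
      Nat.card (centralizer ((P : Subgroup G) : Set G)) = p * u := by
  subst hn
  obtain ⟨k, c, hk, hk1, hkp, hkc, hN, hfac⟩ :=
    sylow_data hG (a := 1) (by rw [pow_one, hnG]) hm one_ne_zero P
  rw [pow_one] at hN
  obtain ⟨r, u, hr, hr1, hru, hC⟩ := prime_data hG hnG hm P hN
  subst hru
  have hk0 : 0 < k := hk ▸ Nat.card_pos
  have hkj : 1 + k / p * p = k := by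
    have := Nat.div_add_mod k p
    rw [hkp, mul_comm] at this
    omega
  have hj0 : k / p ≠ 0 := fun h => by rw [h, zero_mul] at hkj; omega
  have hkm : k ∣ m := ⟨r * u, hkc.symm⟩
  have hm0 : 0 < m := Nat.pos_of_ne_zero fun h => hm (h ▸ dvd_zero p)
  have hjlt : k / p < m / p + 1 := Nat.lt_succ_of_le (Nat.div_le_div_right (Nat.le_of_dvd hm0 hkm))
  have hp1 : 0 < p - 1 := Nat.sub_pos_of_lt hp.out.one_lt
  have hrlt : r < p := by
    have := Nat.le_of_dvd hp1 hr
    omega
  have hr2 : 2 ≤ r := by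
    have h0 : 0 < r := Nat.pos_of_dvd_of_pos hr hp1
    omega
  have hdiv : m / k = r * u := by rw [← hkc, Nat.mul_div_cancel_left _ hk0]
  simp only [optsOK, List.all_eq_true, List.mem_range, Bool.or_eq_true, Bool.and_eq_true,
    decide_eq_true_eq] at h
  have h1 := h (k / p) hjlt
  rw [hkj, hdiv] at h1
  rcases h1 with (h1 | h1) | ((h1 | h1) | h1)
  · exact absurd h1 hj0
  · exact absurd (Nat.mod_eq_zero_of_dvd hkm) h1
  · exact absurd (Nat.mod_eq_zero_of_dvd (hnG ▸ hfac)) h1.2
  · obtain ⟨⟨hj1, hne1⟩, hne2⟩ := h1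
    rw [hj1] at hkj
    rcases order_of_succ hG hnG hm (by rw [hk]; omega) with h2 | h2
    · exact absurd (hnG ▸ h2) hne1
    · exact absurd (hnG ▸ h2) hne2
  · rcases h1 r hrlt with (((h2 | h2) | h2) | h2) | h2
    · omega
    · exact absurd (Nat.mod_eq_zero_of_dvd hr) h2
    · exact absurd (Nat.mul_mod_right r u) h2
    · obtain ⟨⟨⟨ht, -⟩, hp2⟩, h3⟩ := h2
      refine absurd (Nat.mod_eq_zero_of_dvd ?_) h3
      rw [Nat.mul_div_cancel_left _ (show 0 < r by omega)]
      have hcard : Nat.card (P : Subgroup G) = p := by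
        simpa using card_sylow_eq (a := 1) (by rw [pow_one, hnG]) hm P
      have h4 := SylowFixed.card_centralizer_dvd hG P hp2 hcard ht
        (by rw [hk, mul_comm]; omega)
      rw [hC, show 2 * (p * u) = p * (2 * u) by ring] at h4
      exact Nat.dvd_of_mul_dvd_mul_left hp.out.pos h4
    · exact ⟨k, r, u, List.contains_iff_mem.1 h2, hk, hkc, hN, hC⟩

/-- The order of the Sylow subgroup. -/
theorem card_of_prime {m : ℕ} (hnG : Nat.card G = p * m) (hm : ¬ p ∣ m) (P : Sylow p G) :
    Nat.card (P : Subgroup G) = p := by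
  simpa using card_sylow_eq (a := 1) (by rw [pow_one, hnG]) hm P

/-- A prime divisor of `u`, `|C(P)| = p u`, gives an element of that order centralizing `P`. -/
theorem exists_of_dvd_centralizer {P : Sylow p G} {q c : ℕ} (hq : q.Prime)
    (hC : Nat.card (centralizer ((P : Subgroup G) : Set G)) = c) (hd : q ∣ c) :
    ∃ y ∈ centralizer ((P : Subgroup G) : Set G), orderOf y = q := by
  haveI : Fact q.Prime := ⟨hq⟩
  obtain ⟨y, hy⟩ := exists_prime_orderOf_dvd_card' (G := centralizer ((P : Subgroup G) : Set G)) q (hC ▸ hd)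
  exact ⟨y, y.2, by rw [Subgroup.orderOf_coe, hy]⟩

/-- An element of prime order `q ≠ p` centralizing all the Sylow subgroups it fixes fixes a Sylow number of
its centralizer. -/
theorem fixCard_facts (hG : ¬ IsMulCommutative G) (P : Sylow p G)
    (hP : Nat.card (P : Subgroup G) = p) {k q : ℕ} (hk : Nat.card (Sylow p G) = k) (hk1 : k ≠ 1) {y : G}
    (hq : q.Prime) (hqp : q ≠ p) (hy : orderOf y = q)
    (hyC : y ∈ centralizer ((P : Subgroup G) : Set G))
    (hall : ∀ Q : Sylow p G, y • Q = Q → y ∈ centralizer ((Q : Subgroup G) : Set G)) :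
    SylowFixed.fixCard p y < k ∧ SylowFixed.fixCard p y % p = 1 ∧ SylowFixed.fixCard p y % q = k % q ∧
      p * q * SylowFixed.fixCard p y ∣ Nat.card G := by
  haveI : Fact q.Prime := ⟨hq⟩
  set H := centralizer ({y} : Set G) with hH
  have hle : ∀ Q : Sylow p G, y ∈ centralizer ((Q : Subgroup G) : Set G) ↔ (Q : Subgroup G) ≤ H := by
    intro Q
    constructor
    · exact fun h x hx => mem_centralizer_singleton_iff.2 (mem_centralizer_iff.1 h x hx)
    · exact fun h => mem_centralizer_iff.2 fun x hx => mem_centralizer_singleton_iff.1 (h hx)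
  have hfix : ∀ Q : Sylow p G, y • Q = Q ↔ (Q : Subgroup G) ≤ H := fun Q =>
    ⟨fun h => (hle Q).1 (hall Q h), fun h =>
      Sylow.smul_eq_iff_mem_normalizer.2 (centralizer_le_normalizer _ ((hle Q).2 h))⟩
  have hPH : (P : Subgroup G) ≤ H := (hle P).1 hyC
  have hcount : SylowFixed.fixCard p y = Nat.card (Sylow p H) := by
    rw [SylowLocal.card_sylow_eq_card_le P hPH]
    exact Nat.card_congr (Equiv.subtypeEquivRight hfix)
  refine ⟨?_, ?_, ?_, ?_⟩
  · refine lt_of_le_of_ne (hk ▸ Finite.card_subtype_le _) fun h => ?_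
    have hall' : ∀ Q : Sylow p G, y • Q = Q := by
      intro Q
      by_contra hQ
      have := Finite.card_subtype_lt (p := fun R : Sylow p G => y • R = R) hQ
      rw [hk] at this
      exact absurd h (ne_of_lt this)
    have hy1 := SylowFixed.faithful (hk ▸ hk1) hall'
    rw [hy1, orderOf_one] at hy
    exact hq.one_lt.ne hy
  · obtain ⟨i, hi⟩ := SylowFixed.exists_fixCard_eq P hP hyC
    rw [hi, Nat.add_mul_mod_self_left, Nat.mod_eq_of_lt hp.out.one_lt]
  · have hz : IsPGroup q (zpowers y) := IsPGroup.of_card (n := 1) (by rw [Nat.card_zpowers, hy, pow_one])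
    have hmod := hz.card_modEq_card_fixedPoints (Sylow p G)
    have he : MulAction.fixedPoints (zpowers y) (Sylow p G) = {Q | y • Q = Q} := by
      ext Q
      refine ⟨fun h => h ⟨y, mem_zpowers y⟩, fun h u => ?_⟩
      obtain ⟨i, hi⟩ := mem_zpowers_iff.1 u.2
      show (u : G) • Q = Q
      rw [← hi]
      exact MulAction.mem_stabilizer_iff.1 ((MulAction.stabilizer G Q).zpow_mem h i)
    rw [he, hk] at hmod
    exact hmod.symm
  · have hyN : y ∈ normalizer ((P : Subgroup G) : Set G) ⊓ H :=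
      ⟨centralizer_le_normalizer _ hyC, mem_centralizer_singleton_iff.2 rfl⟩
    have h1 : q ∣ Nat.card (normalizer ((P : Subgroup G) : Set G) ⊓ H : Subgroup G) :=
      hy ▸ Subgroup.orderOf_dvd_natCard _ hyN
    have h2 : p ∣ Nat.card (normalizer ((P : Subgroup G) : Set G) ⊓ H : Subgroup G) := by
      have h0 := card_dvd_of_le (le_inf le_normalizer hPH :
        (P : Subgroup G) ≤ normalizer ((P : Subgroup G) : Set G) ⊓ H)
      rwa [hP] at h0
    have h3 := Nat.Coprime.mul_dvd_of_dvd_of_dvd ((Nat.coprime_primes hp.out hq).2 (Ne.symm hqp)) h2 h1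
    rw [hcount, mul_comm]
    exact (Nat.mul_dvd_mul_left _ h3).trans
      ((SylowLocal.card_eq_mul_inf P hPH).symm.dvd.trans (card_subgroup_dvd_card H))

/-- When `q` does not divide the order of the automizer an element of order `q` centralizes every Sylow
subgroup it fixes. -/
theorem centralizes_of_coprime (P : Sylow p G) {r u q : ℕ}
    (hN : Nat.card (normalizer ((P : Subgroup G) : Set G)) = p * (r * u))
    (hC : Nat.card (centralizer ((P : Subgroup G) : Set G)) = p * u) {y : G} (hy : orderOf y = q)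
    (hqr : Nat.Coprime q r) (Q : Sylow p G) (hQ : y • Q = Q) :
    y ∈ centralizer ((Q : Subgroup G) : Set G) := by
  refine SylowLocal.mem_centralizer_of_coprime _ (k := r) ?_ (Sylow.smul_eq_iff_mem_normalizer.1 hQ)
    (hy ▸ hqr)
  rw [SylowLocal.card_centralizer_sylow P Q, hC]
  have h1 := card_sylow_mul_card_normalizer P
  have h2 := card_sylow_mul_card_normalizer Q
  rw [Nat.eq_of_mul_eq_mul_left Nat.card_pos (h2.trans h1.symm), hN]
  exact dvd_of_eq (by ring)

/-- No admissible Sylow number for the centralizer of an element of order `q`. -/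
theorem false_of_no_local (hG : ¬ IsMulCommutative G) {n m : ℕ} (hnG : Nat.card G = n) (hn : n = p * m)
    (hm : ¬ p ∣ m) (P : Sylow p G) {k r u : ℕ} (hk : Nat.card (Sylow p G) = k) (hk1 : k ≠ 1)
    (hN : Nat.card (normalizer ((P : Subgroup G) : Set G)) = p * (r * u))
    (hC : Nat.card (centralizer ((P : Subgroup G) : Set G)) = p * u) {q : ℕ} (hq : q.Prime)
    (hqp : q ≠ p) (hqr : Nat.Coprime q r) (hqu : q ∣ u)
    (h : ∀ j < k, j % p = 1 → j % q = k % q → n % (p * q * j) ≠ 0) : False := by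
  subst hn
  obtain ⟨y, hyC, hy⟩ := exists_of_dvd_centralizer hq hC (dvd_mul_of_dvd_right hqu p)
  obtain ⟨h1, h2, h3, h4⟩ := fixCard_facts hG P (card_of_prime hnG hm P) hk hk1 hq hqp hy hyC
    (centralizes_of_coprime P hN hC hy hqr)
  exact h _ h1 h2 h3 (Nat.mod_eq_zero_of_dvd (hnG ▸ h4))

/-- Few Sylow subgroups with self-centralizing Sylow subgroup of prime order. -/
theorem order_of_self_centralizing (hG : ¬ IsMulCommutative G) {n m : ℕ} (hnG : Nat.card G = n)
    (hn : n = p * m) (hm : ¬ p ∣ m) (P : Sylow p G) (hp2 : p ≠ 2)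
    (hC : Nat.card (centralizer ((P : Subgroup G) : Set G)) = p)
    (hk : 2 * Nat.card (Sylow p G) < (p + 1) * (p + 2)) :
    2 * n = p * (p * p - 1) ∨ n = p * ((p - 1) * (p - 2)) := by
  subst hn
  have hcard := card_of_prime hnG hm P
  obtain ⟨z, hz, hPz⟩ := exists_zpowers_of_card_prime hcard
  haveI : IsCyclic (P : Subgroup G) := isCyclic_of_prime_card hcard
  haveI : IsMulCommutative (P : Subgroup G) := IsCyclic.isMulCommutative
  have hC' : centralizer ((P : Subgroup G) : Set G) = (P : Subgroup G) :=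
    (eq_of_le_of_card_ge (le_centralizer _) (by rw [hC, hcard])).symm
  have hCz : centralizer ({z} : Set G) = zpowers z := by
    calc centralizer ({z} : Set G) = centralizer ((zpowers z : Subgroup G) : Set G) := by
          rw [← centralizer_closure, zpowers_eq_closure]
      _ = zpowers z := by rw [← hPz, hC']
  rw [← hnG]
  rcases Cfsg.Agent.S0996.result (G := G) (commutator_eq_top_of_simple hG) p z hz hCz hk with
    ⟨F, hF1, hF2, hFc, h3, ⟨e⟩⟩ | ⟨l, F, hF1, hF2, hFc, hpl, h3, ⟨e⟩⟩
  · left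
    have h4 := Classical.card_PSL_mul (F := F) hFc 2 (by norm_num)
    rw [← Nat.card_congr e.toEquiv, Fin.prod_univ_two] at h4
    obtain ⟨j, rfl⟩ : Odd p := hp.out.odd_of_ne_two hp2
    rw [show Nat.gcd 2 (2 * j + 1 - 1) = 2 by simp] at h4
    simp only [Fin.val_zero, pow_zero, Fin.val_one, pow_one, show 2 * j + 1 - 1 = 2 * j by omega] at h4
    have h5 : (2 * j + 1) ^ 2 - (2 * j + 1) = (2 * j + 1) * (2 * j) := by
      have : (2 * j + 1) ^ 2 = (2 * j + 1) * (2 * j) + (2 * j + 1) := by ring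
      omega
    have h6 : (2 * j + 1) * (2 * j + 1) - 1 = (2 * j + 1) ^ 2 - 1 := by rw [pow_two]
    rw [h6]
    rw [h5] at h4
    exact Nat.eq_of_mul_eq_mul_left (show 0 < 2 * j by omega) (by linear_combination h4)
  · right
    have h4 := Classical.card_PSL_mul (F := F) hFc 2 (by norm_num)
    rw [← Nat.card_congr e.toEquiv, Fin.prod_univ_two] at h4
    have hl : l ≠ 0 := fun h => by rw [h, pow_zero] at hpl; omega
    obtain ⟨x, hx⟩ : ∃ x, 2 ^ l = 2 * x := ⟨2 ^ (l - 1), by rw [← pow_succ']; congr 1; omega⟩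
    rw [hx] at h4 hpl
    have hg : Nat.gcd 2 (2 * x - 1) = 1 := (Nat.prime_two.coprime_iff_not_dvd).2 (by omega)
    rw [hg, one_mul] at h4
    simp only [Fin.val_zero, pow_zero, Fin.val_one, pow_one] at h4
    obtain ⟨x, rfl⟩ : ∃ y, x = y + 1 := ⟨x - 1, by omega⟩
    have h5 : (2 * (x + 1)) ^ 2 - 1 = (2 * x + 1) * (2 * x + 3) := by
      have : (2 * (x + 1)) ^ 2 = (2 * x + 1) * (2 * x + 3) + 1 := by ring
      omega
    have h6 : (2 * (x + 1)) ^ 2 - 2 * (x + 1) = (2 * x + 2) * (2 * x + 1) := by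
      have : (2 * (x + 1)) ^ 2 = (2 * x + 2) * (2 * x + 1) + 2 * (x + 1) := by ring
      omega
    rw [h5, h6, show 2 * (x + 1) - 1 = 2 * x + 1 by omega] at h4
    rw [hpl, show 2 * (x + 1) + 1 - 1 = 2 * x + 2 by omega, show 2 * (x + 1) + 1 - 2 = 2 * x + 1 by omega]
    exact Nat.eq_of_mul_eq_mul_left (show 0 < 2 * x + 1 by omega) (by linear_combination h4)

/-- The arithmetic of the involution formula. -/
def formulaOK (n p : ℕ) : Bool :=
  ((List.range (n + 1)).filter fun d => decide (2 ≤ d) && decide (n % d = 0)).all fun d =>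
    ([(d + 1, d - 1), (d - 1, d + 1)] : List (ℕ × ℕ)).all fun v =>
      decide (v.2 % p ≠ 0) || decide (v.1 = 1) || decide (n % v.1 ≠ 0) ||
        ((List.range (n + 1)).filter fun c => decide (1 ≤ c) && decide (n % c = 0)).all fun c =>
          (List.range (2 * d + 1)).all fun x => decide (p * c ^ 2 * (d * v.1) ≠ n * x ^ 2)

/-- The involution formula has no solution. -/
theorem false_of_formula (hG : ¬ IsMulCommutative G) {n m : ℕ} (hnG : Nat.card G = n) (hn : n = p * m)
    (hm : ¬ p ∣ m) (hp5 : 5 < p) (P : Sylow p G)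
    (hN : Nat.card (normalizer ((P : Subgroup G) : Set G)) = p * 2) (h : formulaOK n p = true) : False := by
  obtain ⟨s, a, A, -, hpa, hda, ha1, hde, he1, hA, -, heq⟩ :=
    PrimeOrderChar.involution_formula_of_simple hG p hp5 P (card_of_prime (hn ▸ hnG) hm P)
      (hnG ▸ hn ▸ dvd_mul_right p m) hN
  set c := Nat.card (centralizer ({s} : Set G)) with hc
  have hn0 : 0 < n := hnG ▸ Nat.card_pos
  rw [hnG] at hda hde heq
  have ha0 : a.natAbs ≠ 0 := fun h0 => by
    rw [h0, zero_dvd_iff] at hda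
    omega
  have hcn : c ∣ n := hnG ▸ card_subgroup_dvd_card _
  have hc1 : 1 ≤ c := Nat.card_pos
  have heq' : p * c ^ 2 * (a.natAbs * (a + 1).natAbs) = n * (a - A).natAbs ^ 2 := by
    have := congrArg Int.natAbs heq
    simpa only [Int.natAbs_mul, Int.natAbs_pow, Int.natAbs_natCast] using this
  simp only [formulaOK, List.all_eq_true, List.mem_filter, List.mem_range, Bool.and_eq_true,
    Bool.or_eq_true, decide_eq_true_eq] at h
  have h1 := h a.natAbs ⟨Nat.lt_succ_of_le (Nat.le_of_dvd hn0 hda), by omega,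
    Nat.mod_eq_zero_of_dvd hda⟩
  have hx : (a - A).natAbs < 2 * a.natAbs + 1 := by omega
  have key : ∀ v : ℕ × ℕ, v.1 = (a + 1).natAbs → (v.2 : ℤ) = |a - 1| →
      v ∈ ([(a.natAbs + 1, a.natAbs - 1), (a.natAbs - 1, a.natAbs + 1)] : List (ℕ × ℕ)) → False := by
    intro v hv1 hv2 hv
    rcases h1 v hv with ((h2 | h2) | h2) | h2
    · refine h2 (Nat.mod_eq_zero_of_dvd ?_)
      rw [← Int.natCast_dvd_natCast, hv2, dvd_abs]
      exact hpa
    · exact he1 (hv1 ▸ h2)
    · exact h2 (Nat.mod_eq_zero_of_dvd (hv1 ▸ hde))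
    · exact h2 c ⟨Nat.lt_succ_of_le (Nat.le_of_dvd hn0 hcn), hc1, Nat.mod_eq_zero_of_dvd hcn⟩ _ hx
        (hv1 ▸ heq')
  rcases le_or_gt 0 a with ha | ha
  · refine key (a.natAbs + 1, a.natAbs - 1) (by simp only; omega) ?_ List.mem_cons_self
    rw [abs_of_nonneg (by omega : (0 : ℤ) ≤ a - 1)]
    simp only
    omega
  · refine key (a.natAbs - 1, a.natAbs + 1) (by simp only; omega) ?_
      (List.mem_cons_of_mem _ List.mem_cons_self)
    rw [abs_of_nonpos (by omega : a - 1 ≤ 0)]
    simp only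
    omega

end CfsgLib.SmallSimple.Band6232
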