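import Cfsg.Agent.Lib.SmallSimple.AtMost1092.Check

/-!
A decidable test excluding orders between 3641 and 6232, and its soundness.
-/

set_option autoImplicit false

namespace CfsgLib.SmallSimple.Band6232

open AtMost1092

/-- A certificate. -/
inductive Cert
  /-- one of the orders treated separately -/
  | skip
  /-- a certificate of the test for small orders -/
  | old (w : Wit)
  /-- two primes, one of them possibly large -/
  | two (p a q b : ℕ)

/-- Primality below `80 ^ 2`. -/
def isPrimeBand (p : ℕ) : Bool :=
  decide (2 ≤ p) && decide (p < 6400) && (List.range 80).all fun d => decide (d < 2) || decide (p ≤ d) || decide (p % d ≠ 0)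

theorem prime_of_isPrimeBand {p : ℕ} (h : isPrimeBand p = true) : p.Prime := by
  simp only [isPrimeBand, Bool.and_eq_true, decide_eq_true_eq, List.all_eq_true, List.mem_range,
    Bool.or_eq_true] at h
  obtain ⟨⟨h2, hlt⟩, hall⟩ := h
  rw [Nat.prime_def_le_sqrt]
  refine ⟨h2, fun d hd2 hds hdp => ?_⟩
  have hd : d < 80 := by
    have h1 := Nat.le_sqrt.1 hds
    nlinarith
  rcases hall d hd with (h1 | h1) | h1
  · omega
  · have h1' := Nat.le_sqrt.1 hds
    nlinarith
  · exact h1 (Nat.mod_eq_zero_of_dvd hdp)

/-- The orders that occur or are treated separately. -/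
def separate : List ℕ :=
  [4080, 5616, 6048, 6072, 3744, 4032, 4320, 5040, 5472, 5760, 3696, 3780, 3960, 4200, 4212, 4500, 4620,
    4680, 4725, 4760, 5104, 5148, 5292, 5400, 5460, 5600, 5880, 5940, 6000, 6160]

/-- The test. -/
def checkBand (n : ℕ) : Cert → Bool
  | .skip => separate.contains n
  | .old w => decide (1092 < n) && AtMost1092.check n w
  | .two p a q b => isPrimeBand p && isPrimeBand q && decide (n = p ^ a * q ^ b)

/-- The test along a list. -/
def checkBandFrom : ℕ → List Cert → Bool
  | _, [] => true
  | n, w :: l => checkBand n w && checkBandFrom (n + 1) l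

theorem exists_of_checkBandFrom {l : List Cert} {s n : ℕ} (h : checkBandFrom s l = true) (h1 : s ≤ n)
    (h2 : n < s + l.length) : ∃ w, checkBand n w = true := by
  induction l generalizing s with
  | nil => simp at h2; omega
  | cons w l ih =>
    simp only [checkBandFrom, Bool.and_eq_true] at h
    rcases Nat.eq_or_lt_of_le h1 with rfl | hlt
    · exact ⟨w, h.1⟩
    · exact ih h.2 hlt (by simp at h2; omega)

variable {G : Type*} [Group G] [Finite G] [IsSimpleGroup G]

/-- Soundness of the test. -/
theorem mem_separate_of_check (hG : ¬ IsMulCommutative G) {w : Cert}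
    (h : checkBand (Nat.card G) w = true) : Nat.card G ∈ separate := by
  cases w with
  | skip => exact List.contains_iff_mem.1 h
  | old w =>
    simp only [checkBand, Bool.and_eq_true, decide_eq_true_eq] at h
    have h1 := exceptional_of_check hG h.2
    simp only [isExceptional, List.contains_iff_mem, List.mem_cons, List.not_mem_nil, or_false] at h1
    omega
  | two p a q b =>
    simp only [checkBand, Bool.and_eq_true, decide_eq_true_eq] at h
    exact (not_two_primes hG (prime_of_isPrimeBand h.1.1) (prime_of_isPrimeBand h.1.2) h.2).elim

end CfsgLib.SmallSimple.Band6232
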